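import Mathlib
import Cfsg.Prelude.Def_Classical
import Cfsg.Agent.Helper44.QTypeCount
import Cfsg.Agent.Helper44.OrthSum
import Cfsg.Agent.Helper44.OrthSumForm
import Cfsg.Agent.Helper44.IsoTransport

set_option autoImplicit false
set_option linter.unusedSectionVars false
set_option linter.unusedVariables false

/-!
# S2517: `PΩ_9(q)` and `F_q^8 ⋊ Ω_8^-(q)`, `q` odd, have the same element orders — definitions

An *orthogonal pair* `P : OPair F` is a quadratic form `P.Q` on `P.ι → F` together with an isometry `P.g`.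
All the work is done with pairs up to isometry (`OPair.Sim`), their orthogonal sums (`OPair.sum`), and the
invariants order (`P.ord`), membership in `Ω` (`P.InOm`), type (`P.Typ m ε`), the norm matrix
`Σ_{i < o(g)} g^i` (`P.nrm`, `P.Aff`), unipotency (`P.Unip`, `P.Nil t`) and absence of the eigenvalue `1` (`P.Fpf`).
-/

namespace Cfsg.Agent.Helper99.O9

open Matrix QuadraticMap Cfsg.Agent.Helper44 Cfsg.Agent.Helper44.QType

universe u

/-- a quadratic form on `ι → F` with an isometry -/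
structure OPair (F : Type u) [Field F] where
  /-- the index type -/
  ι : Type
  [fι : Fintype ι]
  [dι : DecidableEq ι]
  /-- the form -/
  Q : QuadraticForm F (ι → F)
  /-- the isometry -/
  g : ↥(Cfsg.isometryGroup F ⇑Q)

attribute [instance] OPair.fι OPair.dι

namespace OPair

variable {F : Type u} [Field F] (P : OPair F)

/-- the dimension -/
def dim : ℕ := Fintype.card P.ι

/-- the polar form is non-degenerate -/
def ND : Prop := ∀ x : P.ι → F, (∀ y, polar P.Q x y = 0) → x = 0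

/-- the isometry lies in `Ω` (the commutator subgroup of the isometry group) -/
def InOm : Prop := P.g ∈ Cfsg.Omega F ⇑P.Q

/-- the order of the isometry -/
noncomputable def ord : ℕ := orderOf P.g

/-- the matrix of the isometry -/
def M : Matrix P.ι P.ι F := ((P.g : GL P.ι F) : Matrix P.ι P.ι F)

/-- dimension `2 m` and type `ε` (helper44's `HasType`: the number `Z` of zeros of the form satisfies
`Z q = q^(2m) + ε (q^(m+1) - q^m)`) -/
def Typ (m : ℕ) (ε : ℤ) : Prop := P.dim = 2 * m ∧ HasType (⇑P.Q) m ε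

/-- the norm matrix `Σ_{i < o(g)} g^i` -/
noncomputable def nrm : Matrix P.ι P.ι F := ∑ i ∈ Finset.range P.ord, P.M ^ i

/-- the norm matrix is not zero: then `(v, g)` has order `p · o(g)` in `V ⋊ O(Q)` for a suitable `v` -/
def Aff : Prop := P.nrm ≠ 0

/-- the isometry is unipotent -/
def Unip : Prop := (P.M - 1) ^ P.dim = 0

/-- the isometry has no eigenvalue `1` -/
def Fpf : Prop := IsUnit (P.M - 1)

/-- the isometry has no eigenvalue `-1` -/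
def Fpf' : Prop := IsUnit (P.M + 1)

/-- `g - 1` is nilpotent of index exactly `t` -/
def Nil (t : ℕ) : Prop := (P.M - 1) ^ t = 0 ∧ ∀ s, s < t → (P.M - 1) ^ s ≠ 0

/-- `-1 ∈ Ω(Q)` -/
def NegOm : Prop := ∃ z : ↥(Cfsg.isometryGroup F ⇑P.Q), z ∈ Cfsg.Omega F ⇑P.Q ∧
  ((z : GL P.ι F) : Matrix P.ι P.ι F) = -1

/-- the same form with the identity -/
def one : OPair F where
  ι := P.ι
  Q := P.Q
  g := 1

end OPair

variable {F : Type u} [Field F]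

/-- the orthogonal sum of two pairs -/
noncomputable def OPair.sum (P₁ P₂ : OPair F) : OPair F where
  ι := P₁.ι ⊕ P₂.ι
  Q := orthSumForm P₁.Q P₂.Q
  g := blockDiagIso ⇑P₁.Q ⇑P₂.Q (P₁.g, P₂.g)

/-- two pairs are isometric -/
def OPair.Sim (P P' : OPair F) : Prop :=
  ∃ (C : (P.ι → F) ≃ₗ[F] (P'.ι → F)) (hC : ∀ w, P'.Q (C w) = P.Q w),
    isoTransport ⇑P.Q ⇑P'.Q C hC P.g = P'.g

/-- `-1` as an isometry -/
def negOne {ι : Type} [Fintype ι] [DecidableEq ι] (Q : QuadraticForm F (ι → F)) :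
    ↥(Cfsg.isometryGroup F ⇑Q) :=
  ⟨-1, by
    rw [Cfsg.Agent.Helper44.mem_isometryGroup_iff]
    intro v
    have h : ((-1 : GL ι F) : Matrix ι ι F) = -1 := rfl
    rw [h, Matrix.neg_mulVec, Matrix.one_mulVec, QuadraticMap.map_neg]⟩

/-- the pair `(Q, -g)` -/
def OPair.neg (P : OPair F) : OPair F where
  ι := P.ι
  Q := P.Q
  g := negOne P.Q * P.g

/-- the statement of the splitting lemma (SPLIT): an orthogonal decomposition `V = U ⊕ W` into invariant subspaces splits the pair -/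
def SplitStmt (F : Type u) [Field F] : Prop :=
  ∀ (P : OPair F) (U W : Submodule F (P.ι → F)), P.ND → IsCompl U W →
    (∀ u ∈ U, ∀ w ∈ W, polar P.Q u w = 0) →
    (∀ u ∈ U, P.M *ᵥ u ∈ U) → (∀ w ∈ W, P.M *ᵥ w ∈ W) →
    ∃ (P₁ P₂ : OPair F) (e₁ : (P₁.ι → F) ≃ₗ[F] U) (e₂ : (P₂.ι → F) ≃ₗ[F] W),
      P₁.ND ∧ P₂.ND ∧ P.Sim (P₁.sum P₂) ∧
      (∀ x, ((e₁ (P₁.M *ᵥ x) : U) : P.ι → F) = P.M *ᵥ ((e₁ x : U) : P.ι → F)) ∧
      (∀ x, ((e₂ (P₂.M *ᵥ x) : W) : P.ι → F) = P.M *ᵥ ((e₂ x : W) : P.ι → F)) ∧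
      (∀ x, P₁.Q x = P.Q ((e₁ x : U) : P.ι → F)) ∧ (∀ x, P₂.Q x = P.Q ((e₂ x : W) : P.ι → F))

/-- `OmR F n N`: some non-degenerate quadratic space of dimension `n` has an element of `Ω` of order `N` -/
def OmR (F : Type u) [Field F] (n N : ℕ) : Prop :=
  ∃ P : OPair F, P.dim = n ∧ P.ND ∧ P.InOm ∧ P.ord = N

/-- `EvR F m ε N`: some non-degenerate quadratic space of dimension `2 m` and type `ε` has an element of `Ω`
of order `N` -/
def EvR (F : Type u) [Field F] (m : ℕ) (ε : ℤ) (N : ℕ) : Prop :=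
  ∃ P : OPair F, P.ND ∧ P.Typ m ε ∧ P.InOm ∧ P.ord = N

/-- `AfR F m ε N`: the same with a non-zero norm matrix and `N = p · o(g)` -/
def AfR (F : Type u) [Field F] (m : ℕ) (ε : ℤ) (N : ℕ) : Prop :=
  ∃ P : OPair F, P.ND ∧ P.Typ m ε ∧ P.InOm ∧ P.Aff ∧ ringChar F * P.ord = N

/-- `N` is (divides) an element order of `F^8 ⋊ Ω_8^-(F)`, in terms of pairs -/
def HR (F : Type u) [Field F] (N : ℕ) : Prop :=
  ∃ N' : ℕ, N ∣ N' ∧ 0 < N' ∧ (EvR F 4 (-1) N' ∨ AfR F 4 (-1) N')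

/-! ### unfolding lemmas

(they also make Lean write the on-demand lemmas `X.eq_1`, `X.eq_def` HERE, once, rather than in every file that unfolds `X`) -/

section unfold

variable {F : Type u} [Field F] (P P' : OPair F)

theorem OPair.dim_def : P.dim = Fintype.card P.ι := by
  unfold OPair.dim; rfl
theorem OPair.dim_def' : P.dim = Fintype.card P.ι := by simp only [OPair.dim]
theorem OPair.nd_def : P.ND ↔ ∀ x : P.ι → F, (∀ y, polar P.Q x y = 0) → x = 0 := by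
  unfold OPair.ND; rfl
theorem OPair.nd_def' : P.ND ↔ ∀ x : P.ι → F, (∀ y, polar P.Q x y = 0) → x = 0 := by
  simp only [OPair.ND]
theorem OPair.inOm_def : P.InOm ↔ P.g ∈ Cfsg.Omega F ⇑P.Q := by unfold OPair.InOm; rfl
theorem OPair.inOm_def' : P.InOm ↔ P.g ∈ Cfsg.Omega F ⇑P.Q := by simp only [OPair.InOm]
theorem OPair.ord_def : P.ord = orderOf P.g := by unfold OPair.ord; rfl
theorem OPair.ord_def' : P.ord = orderOf P.g := by simp only [OPair.ord]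
theorem OPair.M_def : P.M = ((P.g : GL P.ι F) : Matrix P.ι P.ι F) := by unfold OPair.M; rfl
theorem OPair.M_def' : P.M = ((P.g : GL P.ι F) : Matrix P.ι P.ι F) := by simp only [OPair.M]
theorem OPair.typ_def (m : ℕ) (ε : ℤ) : P.Typ m ε ↔ (P.dim = 2 * m ∧ HasType (⇑P.Q) m ε) := by
  unfold OPair.Typ; rfl
theorem OPair.typ_def' (m : ℕ) (ε : ℤ) : P.Typ m ε ↔ (P.dim = 2 * m ∧ HasType (⇑P.Q) m ε) := by
  simp only [OPair.Typ]
theorem OPair.nrm_def : P.nrm = ∑ i ∈ Finset.range P.ord, P.M ^ i := by unfold OPair.nrm; rfl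
theorem OPair.nrm_def' : P.nrm = ∑ i ∈ Finset.range P.ord, P.M ^ i := by simp only [OPair.nrm]
theorem OPair.aff_def : P.Aff ↔ P.nrm ≠ 0 := by unfold OPair.Aff; rfl
theorem OPair.aff_def' : P.Aff ↔ P.nrm ≠ 0 := by simp only [OPair.Aff]
theorem OPair.unip_def : P.Unip ↔ (P.M - 1) ^ P.dim = 0 := by unfold OPair.Unip; rfl
theorem OPair.unip_def' : P.Unip ↔ (P.M - 1) ^ P.dim = 0 := by simp only [OPair.Unip]
theorem OPair.fpf_def : P.Fpf ↔ IsUnit (P.M - 1) := by unfold OPair.Fpf; rfl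
theorem OPair.fpf_def' : P.Fpf ↔ IsUnit (P.M - 1) := by simp only [OPair.Fpf]
theorem OPair.fpf'_def : P.Fpf' ↔ IsUnit (P.M + 1) := by unfold OPair.Fpf'; rfl
theorem OPair.fpf'_def' : P.Fpf' ↔ IsUnit (P.M + 1) := by simp only [OPair.Fpf']
theorem OPair.nil_def (t : ℕ) :
    P.Nil t ↔ ((P.M - 1) ^ t = 0 ∧ ∀ s, s < t → (P.M - 1) ^ s ≠ 0) := by unfold OPair.Nil; rfl
theorem OPair.nil_def' (t : ℕ) :
    P.Nil t ↔ ((P.M - 1) ^ t = 0 ∧ ∀ s, s < t → (P.M - 1) ^ s ≠ 0) := by simp only [OPair.Nil]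
theorem OPair.negOm_def : P.NegOm ↔ ∃ z : ↥(Cfsg.isometryGroup F ⇑P.Q), z ∈ Cfsg.Omega F ⇑P.Q ∧
    ((z : GL P.ι F) : Matrix P.ι P.ι F) = -1 := by unfold OPair.NegOm; rfl
theorem OPair.negOm_def' : P.NegOm ↔ ∃ z : ↥(Cfsg.isometryGroup F ⇑P.Q), z ∈ Cfsg.Omega F ⇑P.Q ∧
    ((z : GL P.ι F) : Matrix P.ι P.ι F) = -1 := by simp only [OPair.NegOm]
theorem OPair.one_g : P.one.g = 1 := by unfold OPair.one; rfl
theorem OPair.one_g' : P.one.g = 1 := by simp only [OPair.one]; rfl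
theorem OPair.sum_g : (P.sum P').g = blockDiagIso ⇑P.Q ⇑P'.Q (P.g, P'.g) := by
  unfold OPair.sum; rfl
theorem OPair.sum_g' : (P.sum P').g = blockDiagIso ⇑P.Q ⇑P'.Q (P.g, P'.g) := by
  simp only [OPair.sum]; rfl
theorem OPair.sim_def : P.Sim P' ↔ ∃ (C : (P.ι → F) ≃ₗ[F] (P'.ι → F)) (hC : ∀ w, P'.Q (C w) = P.Q w),
    isoTransport ⇑P.Q ⇑P'.Q C hC P.g = P'.g := by unfold OPair.Sim; rfl
theorem OPair.sim_def' : P.Sim P' ↔ ∃ (C : (P.ι → F) ≃ₗ[F] (P'.ι → F)) (hC : ∀ w, P'.Q (C w) = P.Q w),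
    isoTransport ⇑P.Q ⇑P'.Q C hC P.g = P'.g := by simp only [OPair.Sim]
theorem OPair.neg_g : P.neg.g = negOne P.Q * P.g := by unfold OPair.neg; rfl
theorem OPair.neg_g' : P.neg.g = negOne P.Q * P.g := by simp only [OPair.neg]; rfl
theorem negOne_coe {ι : Type} [Fintype ι] [DecidableEq ι] (Q : QuadraticForm F (ι → F)) :
    ((negOne Q : GL ι F) : Matrix ι ι F) = -1 := by unfold negOne; rfl
theorem negOne_coe' {ι : Type} [Fintype ι] [DecidableEq ι] (Q : QuadraticForm F (ι → F)) :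
    ((negOne Q : GL ι F) : Matrix ι ι F) = -1 := by simp only [negOne]; rfl
theorem splitStmt_def : SplitStmt F ↔
    ∀ (P : OPair F) (U W : Submodule F (P.ι → F)), P.ND → IsCompl U W →
    (∀ u ∈ U, ∀ w ∈ W, polar P.Q u w = 0) →
    (∀ u ∈ U, P.M *ᵥ u ∈ U) → (∀ w ∈ W, P.M *ᵥ w ∈ W) →
    ∃ (P₁ P₂ : OPair F) (e₁ : (P₁.ι → F) ≃ₗ[F] U) (e₂ : (P₂.ι → F) ≃ₗ[F] W),
      P₁.ND ∧ P₂.ND ∧ P.Sim (P₁.sum P₂) ∧
      (∀ x, ((e₁ (P₁.M *ᵥ x) : U) : P.ι → F) = P.M *ᵥ ((e₁ x : U) : P.ι → F)) ∧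
      (∀ x, ((e₂ (P₂.M *ᵥ x) : W) : P.ι → F) = P.M *ᵥ ((e₂ x : W) : P.ι → F)) ∧
      (∀ x, P₁.Q x = P.Q ((e₁ x : U) : P.ι → F)) ∧ (∀ x, P₂.Q x = P.Q ((e₂ x : W) : P.ι → F)) := by
  unfold SplitStmt; rfl
theorem omR_def (n N : ℕ) : OmR F n N ↔ ∃ P : OPair F, P.dim = n ∧ P.ND ∧ P.InOm ∧ P.ord = N := by
  unfold OmR; rfl
theorem omR_def' (n N : ℕ) : OmR F n N ↔ ∃ P : OPair F, P.dim = n ∧ P.ND ∧ P.InOm ∧ P.ord = N := by
  simp only [OmR]
theorem evR_def (m : ℕ) (ε : ℤ) (N : ℕ) :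
    EvR F m ε N ↔ ∃ P : OPair F, P.ND ∧ P.Typ m ε ∧ P.InOm ∧ P.ord = N := by unfold EvR; rfl
theorem evR_def' (m : ℕ) (ε : ℤ) (N : ℕ) :
    EvR F m ε N ↔ ∃ P : OPair F, P.ND ∧ P.Typ m ε ∧ P.InOm ∧ P.ord = N := by simp only [EvR]
theorem afR_def (m : ℕ) (ε : ℤ) (N : ℕ) :
    AfR F m ε N ↔ ∃ P : OPair F, P.ND ∧ P.Typ m ε ∧ P.InOm ∧ P.Aff ∧ ringChar F * P.ord = N := by
  unfold AfR; rfl
theorem afR_def' (m : ℕ) (ε : ℤ) (N : ℕ) :
    AfR F m ε N ↔ ∃ P : OPair F, P.ND ∧ P.Typ m ε ∧ P.InOm ∧ P.Aff ∧ ringChar F * P.ord = N := by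
  simp only [AfR]
theorem hR_def (N : ℕ) : HR F N ↔
    ∃ N' : ℕ, N ∣ N' ∧ 0 < N' ∧ (EvR F 4 (-1) N' ∨ AfR F 4 (-1) N') := by unfold HR; rfl
theorem hR_def' (N : ℕ) : HR F N ↔
    ∃ N' : ℕ, N ∣ N' ∧ 0 < N' ∧ (EvR F 4 (-1) N' ∨ AfR F 4 (-1) N') := by simp only [HR]

end unfold

end Cfsg.Agent.Helper99.O9
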