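import Mathlib
import Cfsg.Agent.Helper99.O9.Defs
import Cfsg.Agent.Helper94.Eo.Defs

set_option autoImplicit false
set_option linter.unusedSectionVars false
set_option linter.unusedVariables false

/-!
# S2517, case (C7): `g ∈ Ω_8^+(q)` without the eigenvalues `±1` — definitions

* `D9 q p`: the numbers bounding the orders in this case.
* `P.Semi`: every power of `g` is `1` or has no eigenvalue `1` (the cyclic group `⟨g⟩` acts semiregularly on the non-zero vectors).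
* `LrO r q p`: the exponents of self-reciprocal polynomials of degree `2 r` without the roots `±1`, `r ≤ 3`
  (the odd-characteristic analogue of helper94's `Sg.Lr`).
-/

namespace Cfsg.Agent.Helper99.O9

open Matrix Polynomial

universe u

/-- the bounds of the case (C7) -/
def D9 (q p : ℕ) : List ℕ :=
  [(q ^ 4 - 1) / 2, (q ^ 3 - 1) * (q + 1) / 2, (q ^ 3 + 1) * (q - 1) / 2,
    p * ((q ^ 2 + 1) * (q + 1) / 2), p * ((q ^ 2 + 1) * (q - 1) / 2), p * (q ^ 2 - 1)] ++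
    if p = 3 then [9 * ((q ^ 2 - 1) / 2)] else []

theorem mem_D9 {q p N : ℕ} : N ∈ D9 q p ↔
    N = (q ^ 4 - 1) / 2 ∨ N = (q ^ 3 - 1) * (q + 1) / 2 ∨ N = (q ^ 3 + 1) * (q - 1) / 2 ∨
      N = p * ((q ^ 2 + 1) * (q + 1) / 2) ∨ N = p * ((q ^ 2 + 1) * (q - 1) / 2) ∨
      N = p * (q ^ 2 - 1) ∨ (p = 3 ∧ N = 9 * ((q ^ 2 - 1) / 2)) := by
  unfold D9
  by_cases hp : p = 3
  · simp [hp]
  · simp [hp]

/-- exponents in half-dimension `r ≤ 3` (no roots `±1`), coarse -/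
def LrO (r q p : ℕ) : List ℕ :=
  match r with
  | 0 => [1]
  | 1 => [q - 1, q + 1]
  | 2 => [q ^ 2 - 1, q ^ 2 + 1, p * (q - 1), p * (q + 1)]
  | 3 => [q ^ 3 - 1, q ^ 3 + 1, (q ^ 2 + 1) * (q - 1) / 2, (q ^ 2 + 1) * (q + 1) / 2, p * (q ^ 2 - 1)]
  | _ => []

theorem LrO_zero (q p : ℕ) : LrO 0 q p = [1] := by simp [LrO]
theorem LrO_one (q p : ℕ) : LrO 1 q p = [q - 1, q + 1] := by simp [LrO]
theorem LrO_two (q p : ℕ) : LrO 2 q p = [q ^ 2 - 1, q ^ 2 + 1, p * (q - 1), p * (q + 1)] := by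
  simp [LrO]
theorem LrO_three (q p : ℕ) : LrO 3 q p =
    [q ^ 3 - 1, q ^ 3 + 1, (q ^ 2 + 1) * (q - 1) / 2, (q ^ 2 + 1) * (q + 1) / 2, p * (q ^ 2 - 1)] := by
  simp [LrO]
theorem LrO_zero' (q p : ℕ) : LrO 0 q p = [1] := by unfold LrO; rfl

variable {F : Type u} [Field F]

/-- every power of `g` is `1` or has no eigenvalue `1` -/
def OPair.Semi (P : OPair F) : Prop := ∀ j : ℕ, P.M ^ j = 1 ∨ IsUnit (P.M ^ j - 1)

theorem OPair.semi_def (P : OPair F) : P.Semi ↔ ∀ j : ℕ, P.M ^ j = 1 ∨ IsUnit (P.M ^ j - 1) := by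
  unfold OPair.Semi; rfl
theorem OPair.semi_def' (P : OPair F) : P.Semi ↔ ∀ j : ℕ, P.M ^ j = 1 ∨ IsUnit (P.M ^ j - 1) := by
  simp only [OPair.Semi]

/-- `ψ ∣ X ^ n - 1` for some `n` in the list -/
def CovO (N : List ℕ) (ψ : F[X]) : Prop := ∃ n ∈ N, ψ ∣ X ^ n - 1

theorem covO_def (N : List ℕ) (ψ : F[X]) : CovO N ψ ↔ ∃ n ∈ N, ψ ∣ X ^ n - 1 := by
  unfold CovO; rfl
theorem covO_def' (N : List ℕ) (ψ : F[X]) : CovO N ψ ↔ ∃ n ∈ N, ψ ∣ X ^ n - 1 := by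
  simp only [CovO]

end Cfsg.Agent.Helper99.O9
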