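import Mathlib
import Cfsg.Agent.Helper99.O9.Defs

set_option autoImplicit false
set_option linter.unusedSectionVars false
set_option linter.unusedVariables false

/-!
# S2517 backup pieces (helper99): (NILU), (NILORD)
-/

namespace Cfsg.Agent.Helper99.O9.Back

open Matrix Polynomial Cfsg.Agent.Helper99.O9

universe u

variable {F : Type u} [Field F] [Fintype F]

theorem pow_card_eq_zero_of_nilpotent {ι : Type} [Fintype ι] [DecidableEq ι] (N : Matrix ι ι F)
    (h : IsNilpotent N) : N ^ Fintype.card ι = 0 := by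
  have h1 := Matrix.isNilpotent_charpoly_sub_pow_of_isNilpotent h
  have h2 : N.charpoly - X ^ Fintype.card ι = 0 := h1.eq_zero
  have h3 : N.charpoly = X ^ Fintype.card ι := sub_eq_zero.mp h2
  have h4 := Matrix.aeval_self_charpoly N
  rw [h3] at h4
  simpa using h4

/-- (NILU) -/
theorem unip_of_nil {P : OPair F} {t : ℕ} (h : P.Nil t) : P.Unip := by
  unfold OPair.Unip OPair.dim
  exact pow_card_eq_zero_of_nilpotent _ ⟨t, h.1⟩

theorem sub_one_pow_char_pow {ι : Type} [Fintype ι] [DecidableEq ι] (M : Matrix ι ι F) (k : ℕ) :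
    (M - 1) ^ (ringChar F ^ k) = M ^ (ringChar F ^ k) - 1 := by
  have hp : Fact (ringChar F).Prime := ⟨CharP.char_is_prime F (ringChar F)⟩
  have hc : CharP F (ringChar F) := ringChar.charP F
  have h1 : ((X : F[X]) - 1) ^ (ringChar F ^ k) = X ^ (ringChar F ^ k) - 1 := by
    rw [sub_pow_char_pow, one_pow]
  have h2 := congrArg (Polynomial.aeval M) h1
  simpa using h2

/-- (NILORD) `u^(p^k) - 1 = (u - 1)^(p^k)` -/
theorem nil_ord {P : OPair F} {t : ℕ} (h : P.Nil t) (k : ℕ) :
    P.ord ∣ ringChar F ^ k ↔ t ≤ ringChar F ^ k := by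
  have key : P.ord ∣ ringChar F ^ k ↔ P.M ^ (ringChar F ^ k) = 1 := by
    unfold OPair.ord OPair.M
    rw [orderOf_dvd_iff_pow_eq_one]
    constructor
    · intro h1
      have h2 := congrArg (fun g : ↥(Cfsg.isometryGroup F ⇑P.Q) => ((g : GL P.ι F) : Matrix P.ι P.ι F)) h1
      simpa using h2
    · intro h1
      apply Subtype.ext
      apply Units.ext
      simpa using h1
  rw [key, ← sub_eq_zero, ← sub_one_pow_char_pow]
  constructor
  · intro h1
    by_contra hlt
    rw [not_le] at hlt
    exact h.2 _ hlt h1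
  · intro hle
    obtain ⟨d, hd⟩ := Nat.exists_eq_add_of_le hle
    rw [hd, pow_add, h.1, zero_mul]

end Cfsg.Agent.Helper99.O9.Back
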