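import Mathlib
import Cfsg.Agent.Helper99.O9.Defs
import Cfsg.Agent.Helper99.O9.BackNILU
import Cfsg.Agent.Helper90.O9SUMO
import Cfsg.Agent.Helper49.Is8GEOM

set_option autoImplicit false
set_option linter.unusedSectionVars false
set_option linter.unusedVariables false

/-!
# S2517 backup piece (helper99): (AFFSUM)
-/

namespace Cfsg.Agent.Helper99.O9.Back

open Matrix Polynomial Cfsg.Agent.Helper99.O9 Cfsg.Agent.Helper44

universe u

variable {F : Type u} [Field F] [Fintype F]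

theorem ringChar_prime'' : (ringChar F).Prime := CharP.char_is_prime F (ringChar F)

/-- `Σ_{i<p^e} X^i = (X-1)^(p^e-1)` -/
theorem geo_poly_char (e : ℕ) :
    ∑ i ∈ Finset.range (ringChar F ^ e), (X : F[X]) ^ i = (X - 1) ^ (ringChar F ^ e - 1) := by
  have hp : Fact (ringChar F).Prime := ⟨ringChar_prime''⟩
  have hc : CharP F (ringChar F) := ringChar.charP F
  have hne : (X : F[X]) - 1 ≠ 0 := by
    have := Polynomial.X_sub_C_ne_zero (1 : F)
    rwa [map_one] at this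
  have hpos : 1 ≤ ringChar F ^ e := Nat.one_le_pow _ _ ringChar_prime''.pos
  apply mul_left_cancel₀ hne
  rw [mul_comm, geom_sum_mul, ← pow_succ', Nat.sub_add_cancel hpos, sub_pow_char_pow, one_pow]

theorem geo_mat_char {ι : Type} [Fintype ι] [DecidableEq ι] (A : Matrix ι ι F) (e : ℕ) :
    ∑ i ∈ Finset.range (ringChar F ^ e), A ^ i = (A - 1) ^ (ringChar F ^ e - 1) := by
  have h := congrArg (Polynomial.aeval A) (geo_poly_char (F := F) e)
  simpa using h

theorem ord_of_nil_pow' {P : OPair F} {e : ℕ} (h : P.Nil (ringChar F ^ e)) :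
    P.ord = ringChar F ^ e := by
  have hp : (ringChar F).Prime := ringChar_prime''
  have h1 : P.ord ∣ ringChar F ^ e := (nil_ord h e).mpr le_rfl
  obtain ⟨j, hj, hk⟩ := (Nat.dvd_prime_pow hp).1 h1
  rcases Nat.eq_or_lt_of_le hj with rfl | hlt
  · exact hk
  · exfalso
    have h2 : ringChar F ^ e ≤ ringChar F ^ j := (nil_ord h j).mp (by rw [hk])
    have := (Nat.pow_le_pow_iff_right hp.one_lt).mp h2
    omega

/-- arithmetic: `p · lcm(p^e, o) = lcm(p^(e+1), o)` if `p^(e+1) ∤ o` -/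
theorem mul_lcm_pow' {p : ℕ} (hp : p.Prime) (e o : ℕ) (ho : 0 < o) (h : ¬ p ^ (e + 1) ∣ o) :
    p * Nat.lcm (p ^ e) o = Nat.lcm (p ^ (e + 1)) o ∧ ¬ p ∣ Nat.lcm (p ^ e) o / p ^ e := by
  obtain ⟨j, m, hm, rfl⟩ := Nat.exists_eq_pow_mul_and_not_dvd ho.ne' p hp.ne_one
  have hje : j ≤ e := by
    by_contra hlt
    rw [not_le] at hlt
    exact h (Dvd.dvd.mul_right (pow_dvd_pow p hlt) m)
  have hcop : ∀ i, Nat.Coprime (p ^ i) m := fun i =>
    Nat.Coprime.pow_left i ((Nat.Prime.coprime_iff_not_dvd hp).mpr hm)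
  have key : ∀ i, j ≤ i → Nat.lcm (p ^ i) (p ^ j * m) = p ^ i * m := by
    intro i hi
    obtain ⟨d, rfl⟩ := Nat.exists_eq_add_of_le hi
    have h1 : p ^ (j + d) = p ^ j * p ^ d := pow_add p j d
    rw [h1, Nat.lcm_mul_left, (hcop d).lcm_eq_mul]
    ring
  constructor
  · rw [key e hje, key (e + 1) (by omega), pow_succ]
    ring
  · rw [key e hje, Nat.mul_div_cancel_left m (pow_pos hp.pos e)]
    exact hm

/-- (AFFSUM) -/
theorem aff_sum {P₁ P₂ : OPair F} {e : ℕ} (h1 : P₁.Nil (ringChar F ^ e))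
    (h2 : ¬ ringChar F ^ (e + 1) ∣ P₂.ord) :
    (P₁.sum P₂).Aff ∧ ringChar F * (P₁.sum P₂).ord = Nat.lcm (ringChar F ^ (e + 1)) P₂.ord := by
  have hp : (ringChar F).Prime := ringChar_prime''
  have hc : CharP F (ringChar F) := ringChar.charP F
  have ho1 : P₁.ord = ringChar F ^ e := ord_of_nil_pow' h1
  have ho2 : 0 < P₂.ord := by
    unfold OPair.ord
    exact orderOf_pos P₂.g
  have hsum : (P₁.sum P₂).ord = Nat.lcm (ringChar F ^ e) P₂.ord := by
    rw [Cfsg.Agent.Helper90.O9.sum_ord, ho1]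
  obtain ⟨harith, hndiv⟩ := mul_lcm_pow' hp e P₂.ord ho2 h2
  refine ⟨?_, by rw [hsum]; exact harith⟩
  -- the norm matrix
  set N := (P₁.sum P₂).ord with hN
  set s := ringChar F ^ e with hs
  have hsN : s ∣ N := by rw [hsum]; exact Nat.dvd_lcm_left _ _
  obtain ⟨m, hm⟩ := hsN
  have hspos : 0 < s := pow_pos hp.pos e
  have hmdiv : N / s = m := by rw [hm, Nat.mul_div_cancel_left m hspos]
  have hpm : ¬ ringChar F ∣ m := by
    rw [← hmdiv, hsum]
    exact hndiv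
  have hmF : (m : F) ≠ 0 := by
    intro h0
    exact hpm ((CharP.cast_eq_zero_iff F (ringChar F) m).mp h0)
  -- `M₁ ^ s = 1`
  have hM1 : P₁.M ^ s = 1 := by
    have := sub_one_pow_char_pow P₁.M e
    rw [h1.1] at this
    exact (sub_eq_zero.mp this.symm)
  have hblock : ∑ i ∈ Finset.range N, P₁.M ^ i = m • (P₁.M - 1) ^ (s - 1) := by
    rw [hm, Cfsg.Agent.Helper49.Is8.geom_sum_mul P₁.M s m hM1, geo_mat_char]
  have hne : (P₁.M - 1) ^ (s - 1) ≠ 0 := h1.2 (s - 1) (by omega)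
  have hblock_ne : ∑ i ∈ Finset.range N, P₁.M ^ i ≠ 0 := by
    rw [hblock]
    intro h0
    apply hne
    have h3 : ((m : F)) • (P₁.M - 1) ^ (s - 1) = 0 := by
      rw [← h0, Nat.cast_smul_eq_nsmul]
    rcases smul_eq_zero.mp h3 with h4 | h4
    · exact absurd h4 hmF
    · exact h4
  -- the matrix of the sum
  have hMsum : (P₁.sum P₂).M = Matrix.fromBlocks P₁.M 0 0 P₂.M := by
    unfold OPair.M
    rw [OPair.sum_g]
    exact blockDiagIso_coe _ _ _
  have hpow : ∀ i : ℕ, (Matrix.fromBlocks P₁.M 0 0 P₂.M) ^ i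
      = Matrix.fromBlocks (P₁.M ^ i) 0 0 (P₂.M ^ i) := by
    intro i
    induction i with
    | zero => simp [Matrix.fromBlocks_one]
    | succ i ih =>
      rw [pow_succ, ih, Matrix.fromBlocks_multiply]
      simp [pow_succ]
  unfold OPair.Aff OPair.nrm
  rw [← hN, hMsum]
  intro h0
  apply hblock_ne
  have hsumB : ∑ i ∈ Finset.range N, (Matrix.fromBlocks P₁.M 0 0 P₂.M) ^ i
      = Matrix.fromBlocks (∑ i ∈ Finset.range N, P₁.M ^ i) 0 0 (∑ i ∈ Finset.range N, P₂.M ^ i) := by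
    rw [Finset.sum_congr rfl (fun i _ => hpow i)]
    ext a b
    rcases a with a | a <;> rcases b with b | b <;> simp [Matrix.sum_apply]
  have h6 : Matrix.fromBlocks (∑ i ∈ Finset.range N, P₁.M ^ i) 0 0 (∑ i ∈ Finset.range N, P₂.M ^ i)
      = (0 : Matrix (P₁.ι ⊕ P₂.ι) (P₁.ι ⊕ P₂.ι) F) := by
    rw [← hsumB]
    exact h0
  have h7 := congrArg Matrix.toBlocks₁₁ h6
  rw [Matrix.toBlocks_fromBlocks₁₁] at h7
  rw [h7]
  rfl

end Cfsg.Agent.Helper99.O9.Back
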