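import Mathlib
import Cfsg.Agent.Helper99.O9.Defs
import Cfsg.Agent.Helper99.O9.BackNILU
import Cfsg.Agent.Helper99.KdimSplit

set_option autoImplicit false
set_option linter.unusedSectionVars false
set_option linter.unusedVariables false

/-!
# S2517 backup piece (helper99): (PAR) a unipotent isometry in even dimension `n` has `(u - 1)^(n-1) = 0`
-/

namespace Cfsg.Agent.Helper99.O9.Back

open Matrix Module QuadraticMap Cfsg.Agent.Helper99.O9 Cfsg.Agent.Helper43.JT Cfsg.Agent.Helper99.KdimSplit

universe u

variable {F : Type u} [Field F]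

/-- a concave function with `f 0 = 0`, `f n = n` and `f (n-1) < n` has `f (n-1) = n - 1` -/
theorem concave_aux (f : ℕ → ℕ) (n : ℕ) (hn : 1 ≤ n) (h0 : f 0 = 0) (hnn : f n = n)
    (hlt : f (n - 1) < n) (hc : ∀ l, f (l + 2) + f l ≤ 2 * f (l + 1)) : n - 1 ≤ f (n - 1) := by
  -- differences are at least one
  have hd : ∀ j, j ≤ n - 1 → f (n - 1 - j) + 1 ≤ f (n - 1 - j + 1) := by
    intro j
    induction j with
    | zero =>
      intro _
      rw [Nat.sub_zero, Nat.sub_add_cancel hn, hnn]
      omega
    | succ j ih =>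
      intro hj
      have h1 := ih (by omega)
      have h2 := hc (n - 1 - (j + 1))
      have e1 : n - 1 - (j + 1) + 2 = n - 1 - j + 1 := by omega
      have e2 : n - 1 - (j + 1) + 1 = n - 1 - j := by omega
      rw [e1, e2] at h2
      rw [e2]
      omega
  have hge : ∀ l, l ≤ n → l ≤ f l := by
    intro l
    induction l with
    | zero => intro _; omega
    | succ l ih =>
      intro hl
      have h1 := ih (by omega)
      have h2 := hd (n - 1 - l) (by omega)
      have e1 : n - 1 - (n - 1 - l) = l := by omega
      rw [e1] at h2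
      omega
  exact hge (n - 1) (by omega)

section abstract

variable {V : Type u} [AddCommGroup V] [Module F V] [FiniteDimensional F V]

/-- (PAR), abstract form -/
theorem par_abstract (h2 : (2 : F) ≠ 0) (Q : QuadraticForm F V) (T : Module.End F V)
    (hT : ∀ x, Q (T x) = Q x) (hnd : ∀ x, (∀ y, polar Q x y = 0) → x = 0) (n : ℕ)
    (hn : finrank F V = n) (hev : Even n) (hn1 : 1 ≤ n) (hnil : (T - 1) ^ n = 0) :
    (T - 1) ^ (n - 1) = 0 := by
  by_contra hne
  set N : Module.End F V := T - 1 with hN
  have hTN : ∀ x, T x = x + N x := by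
    intro x
    rw [hN, LinearMap.sub_apply, Module.End.one_apply]
    abel
  have hcomm : Commute T N := by
    rw [hN]
    exact (Commute.refl T).sub_right (Commute.one_right T)
  -- isometry on the polar form
  have hpol : ∀ x y, polar Q (T x) (T y) = polar Q x y := by
    intro x y
    simp only [polar, ← map_add, hT]
  -- (*)
  have hstar : ∀ x y, polar Q (N x) y = - polar Q (T x) (N y) := by
    intro x y
    have h1 : N y = T y - y := by rw [hTN]; abel
    have h3 : N x = T x - x := by rw [hTN]; abel
    rw [h1, polar_sub_right, hpol, h3, polar_sub_left]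
    ring
  have hiter : ∀ k x y, polar Q ((N ^ k) x) y = (-1) ^ k * polar Q ((T ^ k) x) ((N ^ k) y) := by
    intro k
    induction k with
    | zero => intro x y; simp
    | succ k ih =>
      intro x y
      have e1 : (N ^ (k + 1)) x = N ((N ^ k) x) := by rw [pow_succ', Module.End.mul_apply]
      have e2 : T ((N ^ k) x) = (N ^ k) (T x) := by
        have := (hcomm.pow_right k).eq
        calc T ((N ^ k) x) = (T * N ^ k) x := rfl
          _ = (N ^ k * T) x := by rw [this]
          _ = (N ^ k) (T x) := rfl
      have e3 : (T ^ k) (T x) = (T ^ (k + 1)) x := by rw [pow_succ, Module.End.mul_apply]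
      have e4 : (N ^ k) (N y) = (N ^ (k + 1)) y := by rw [pow_succ, Module.End.mul_apply]
      rw [e1, hstar, e2, ih, e3, e4, pow_succ]
      ring
  -- vectors killed by `N`
  have hfix : ∀ z, N z = 0 → ∀ k x, polar Q ((T ^ k) x) z = polar Q x z := by
    intro z hz k
    induction k with
    | zero => intro x; simp
    | succ k ih =>
      intro x
      have e1 : (T ^ (k + 1)) x = T ((T ^ k) x) := by rw [pow_succ', Module.End.mul_apply]
      rw [e1, hTN, polar_add_left, hstar, hz]
      simp [ih]
  obtain ⟨m, hm⟩ : ∃ m, n = m + 1 := ⟨n - 1, by omega⟩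
  have hmodd : Odd m := by
    rcases Nat.even_or_odd m with he | ho
    · exfalso
      rw [hm] at hev
      exact (Nat.not_even_iff_odd.mpr he.add_one) hev
    · exact ho
  have hm' : n - 1 = m := by omega
  rw [hm'] at hne
  have hNz : ∀ y, N ((N ^ m) y) = 0 := by
    intro y
    have : (N ^ n) y = 0 := by rw [hnil]; rfl
    rw [hm, pow_succ', Module.End.mul_apply] at this
    exact this
  -- antisymmetry of `β`
  have hanti : ∀ x y, polar Q ((N ^ m) x) y = - polar Q ((N ^ m) y) x := by
    intro x y
    rw [hiter, hmodd.neg_one_pow, hfix _ (hNz y), polar_comm]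
    ring
  -- the kernel of `N ^ m` is a hyperplane
  have hk0 : kdim N 0 = 0 := kdim_zero N
  have hkn : kdim N n = n := by
    unfold kdim
    rw [hnil, LinearMap.ker_zero, finrank_top, hn]
  have hklt : kdim N (n - 1) < n := by
    rw [hm']
    unfold kdim
    rw [← hn]
    apply Submodule.finrank_lt
    intro htop
    apply hne
    apply LinearMap.ext
    intro x
    have : x ∈ LinearMap.ker (N ^ m) := by rw [htop]; trivial
    exact this
  have hkm : m ≤ kdim N m := by
    have := concave_aux (kdim N) n hn1 hk0 hkn hklt (kdim_concave N)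
    rwa [hm'] at this
  have hrank : finrank F ↥(LinearMap.range (N ^ m)) ≤ 1 := by
    have h1 := LinearMap.finrank_range_add_finrank_ker (N ^ m)
    unfold kdim at hkm
    omega
  -- a vector outside the kernel
  obtain ⟨y, hy⟩ : ∃ y, (N ^ m) y ≠ 0 := by
    by_contra hall
    apply hne
    apply LinearMap.ext
    intro x
    by_contra hx
    exact hall ⟨x, hx⟩
  set w := (N ^ m) y with hw
  -- every vector is `h + c y` with `h` in the kernel
  have hdec : ∀ x, ∃ c : F, (N ^ m) (x - c • y) = 0 := by
    intro x
    have hw' : (⟨w, ⟨y, rfl⟩⟩ : ↥(LinearMap.range (N ^ m))) ≠ 0 := by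
      intro h0
      exact hy (congrArg Subtype.val h0)
    have hr1 : finrank F ↥(LinearMap.range (N ^ m)) = 1 := by
      have : 0 < finrank F ↥(LinearMap.range (N ^ m)) := by
        apply Module.finrank_pos_iff_exists_ne_zero.mpr
        exact ⟨_, hw'⟩
      omega
    obtain ⟨c, hc⟩ := (finrank_eq_one_iff_of_nonzero' _ hw').mp hr1 ⟨(N ^ m) x, ⟨x, rfl⟩⟩
    refine ⟨c, ?_⟩
    have hc' : c • w = (N ^ m) x := congrArg Subtype.val hc
    rw [map_sub, map_smul, ← hw, hc', sub_self]
  -- `w` is orthogonal to everything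
  have hyy : polar Q w y = 0 := by
    have h := hanti y y
    have h3 : (2 : F) * polar Q w y = 0 := by
      rw [hw]
      linear_combination h
    rcases mul_eq_zero.mp h3 with h4 | h4
    · exact absurd h4 h2
    · exact h4
  have hw0 : w = 0 := by
    apply hnd
    intro x
    obtain ⟨c, hc⟩ := hdec x
    have hx : x = (x - c • y) + c • y := by abel
    rw [hx, polar_add_right, polar_smul_right, hyy, hw, hanti y (x - c • y), hc]
    simp
  exact hy hw0

end abstract

variable [Fintype F]

/-- (PAR) -/
theorem nil_lt_of_even (hF : Odd (Fintype.card F)) {P : OPair F} (hP : P.ND) (he : Even P.dim)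
    (h1 : 1 ≤ P.dim) {t : ℕ} (h : P.Nil t) : t + 1 ≤ P.dim := by
  have h2 : (2 : F) ≠ 0 := by
    intro h0
    have hp : ringChar F ∣ 2 := (ringChar.spec F 2).mp (by exact_mod_cast h0)
    have hdvd : ringChar F ∣ Fintype.card F := by
      rw [← CharP.cast_eq_zero_iff F (ringChar F)]
      exact Nat.cast_card_eq_zero F
    have hpr : (ringChar F).Prime := CharP.char_is_prime F (ringChar F)
    have h2' : ringChar F = 2 := (Nat.prime_dvd_prime_iff_eq hpr Nat.prime_two).mp hp
    rw [h2'] at hdvd
    exact (Nat.not_even_iff_odd.mpr hF) (even_iff_two_dvd.mpr hdvd)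
  have hcard : P.dim = Fintype.card P.ι := rfl
  have hnilM : (P.M - 1) ^ P.dim = 0 := unip_of_nil h
  set T : Module.End F (P.ι → F) := Matrix.toLin' P.M with hT
  have hTN : ∀ k, (T - 1) ^ k = Matrix.toLin' ((P.M - 1) ^ k) := by
    intro k
    rw [Matrix.toLin'_pow, map_sub, Matrix.toLin'_one]
    rfl
  have hiso : ∀ x, P.Q (T x) = P.Q x := by
    intro x
    rw [hT, Matrix.toLin'_apply]
    exact (Cfsg.Agent.Helper44.mem_isometryGroup_iff (⇑P.Q) P.g.1).1 P.g.2 x
  have hfin : finrank F (P.ι → F) = P.dim := by
    rw [Module.finrank_fintype_fun_eq_card]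
    rfl
  have hkey := par_abstract h2 P.Q T hiso hP P.dim hfin he h1 (by rw [hTN, hnilM, map_zero])
  rw [hTN] at hkey
  have hzero : (P.M - 1) ^ (P.dim - 1) = 0 := by
    apply Matrix.toLin'.injective
    rw [hkey, map_zero]
  by_contra hlt
  rw [not_le] at hlt
  exact h.2 (P.dim - 1) (by omega) hzero

end Cfsg.Agent.Helper99.O9.Back
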