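import Mathlib
import Cfsg.Agent.Helper99.O9.Defs
import Cfsg.Agent.Helper12.O9ARO1
import Cfsg.Agent.Helper12.O9ARO2
import Cfsg.Agent.Helper29.O9ARO4
import Cfsg.Agent.Helper29.O9SEMIP
import Cfsg.Agent.Helper41.O9ORB
import Cfsg.Agent.Helper42.O9CHSR
import Cfsg.Agent.Helper42.O9CYC
import Cfsg.Agent.Helper47.O9ARB
import Cfsg.Agent.Helper47.O9ARO3
import Cfsg.Agent.Helper60.O9SGM
import Cfsg.Agent.Helper60.O9SOM
import Cfsg.Agent.Helper63.O9ARL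
import Cfsg.Agent.Helper63.O9PEELO
import Cfsg.Agent.Helper65.O9CNT
import Cfsg.Agent.Helper65.O9NDIV
import Cfsg.Agent.Helper66.O9SEMI1
import Cfsg.Agent.Helper66.O9SEMI2
import Cfsg.Agent.Helper79.O9CHEV2
import Cfsg.Agent.Helper79.O9CHORD
import Cfsg.Agent.Helper87.O9CHEV1
import Cfsg.Agent.Helper94.O9SGP
import Cfsg.Agent.Helper99.O9.C7Defs
import Cfsg.Agent.Helper44.Spinor

set_option autoImplicit false
set_option linter.unusedSectionVars false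
set_option linter.unusedVariables false

/-!
# Glue for S2517 (C7): the pieces of WANTED #13864, restated under uniform names
-/

namespace Cfsg.Agent.Helper99.O9

open Matrix Polynomial QuadraticMap Cfsg.Agent.Helper44 Cfsg.Agent.Helper44.QType Cfsg.Agent.Helper94

universe u

variable {F : Type u} [Field F] [Fintype F]

/-! ## polynomials: the covering -/

/-- (PEELO) peel one primary block off a self-reciprocal polynomial without the roots `±1`: the odd-characteristic version of helper94's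
`Sg.peel` (`Cfsg/Agent/Helper94/Sg/P_PEEL.lean`, read its header; the `Eo` lemmas `step_A`, `step_B`, `sr_irreducible_dvd`, `BLK_pow_dvd`,
`dvd_X_pow_card_pow_sub_one`, `mrev_*` are characteristic free).  Only change: `¬ f ∣ X ^ 2 - 1` now follows from `ψ(1) ≠ 0` and `ψ(-1) ≠ 0`
(`X ^ 2 - 1 = (X - 1)(X + 1)`), and `2 ^ clog 2 μ` becomes `p ^ clog p μ`.  Last clause: if `μ = 1` and `k = r` then `ψ' = 1` and `ψ = B` is `f` or
`f * mrev f` -/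
theorem peel_odd (hF : Odd (Fintype.card F)) {ψ : F[X]} {r : ℕ} (hr : 1 ≤ r) (hm : ψ.Monic)
    (hsr : Eo.SR ψ) (h1 : ψ.eval 1 ≠ 0) (h1' : ψ.eval (-1) ≠ 0) (hdeg : ψ.natDegree = 2 * r) :
    ∃ (k μ e : ℕ) (B ψ' : F[X]), 1 ≤ k ∧ 1 ≤ μ ∧ k * μ ≤ r ∧
      (e = Fintype.card F ^ k + 1 ∨ e = Fintype.card F ^ k - 1) ∧
      ψ = B * ψ' ∧ IsCoprime B ψ' ∧
      B ∣ X ^ (e * ringChar F ^ Nat.clog (ringChar F) μ) - 1 ∧
      ψ'.Monic ∧ Eo.SR ψ' ∧ ψ'.eval 1 ≠ 0 ∧ ψ'.eval (-1) ≠ 0 ∧ ψ'.natDegree = 2 * (r - k * μ) ∧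
      (μ = 1 → k = r → (Irreducible ψ ∨
        ∃ f : F[X], f.Monic ∧ Irreducible f ∧ Eo.mrev f ≠ f ∧ ψ = f * Eo.mrev f)) :=
  Cfsg.Agent.Helper63.O9.peel_odd hF hr hm hsr h1 h1' hdeg

/-- (ARO1) -/
theorem arO1 (q p : ℕ) (hq : Odd q) (hq3 : 3 ≤ q) (hp : p.Prime) (hp2 : p ≠ 2) (k μ e N' : ℕ)
    (hk : 1 ≤ k) (hμ : 1 ≤ μ) (hkμ : k * μ ≤ 1) (he : e = q ^ k + 1 ∨ e = q ^ k - 1)
    (hN' : N' ∈ LrO (1 - k * μ) q p) :
    ∃ N ∈ LrO 1 q p, Nat.lcm (e * p ^ Nat.clog p μ) N' ∣ N :=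
  Cfsg.Agent.Helper12.O9.arO1 q p hq hq3 hp hp2 k μ e N' hk hμ hkμ he hN'

/-- (ARO2) all by `Nat.lcm_dvd` and explicit divisibilities -/
theorem arO2 (q p : ℕ) (hq : Odd q) (hq3 : 3 ≤ q) (hp : p.Prime) (hp2 : p ≠ 2) (k μ e N' : ℕ)
    (hk : 1 ≤ k) (hμ : 1 ≤ μ) (hkμ : k * μ ≤ 2) (he : e = q ^ k + 1 ∨ e = q ^ k - 1)
    (hN' : N' ∈ LrO (2 - k * μ) q p) :
    ∃ N ∈ LrO 2 q p, Nat.lcm (e * p ^ Nat.clog p μ) N' ∣ N :=
  Cfsg.Agent.Helper12.O9.arO2 q p hq hq3 hp hp2 k μ e N' hk hμ hkμ he hN'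

/-- (ARO3) -/
theorem arO3 (q p : ℕ) (hq : Odd q) (hq3 : 3 ≤ q) (hp : p.Prime) (hp2 : p ≠ 2) (k μ e N' : ℕ)
    (hk : 1 ≤ k) (hμ : 1 ≤ μ) (hkμ : k * μ ≤ 3) (he : e = q ^ k + 1 ∨ e = q ^ k - 1)
    (hN' : N' ∈ LrO (3 - k * μ) q p) :
    ∃ N ∈ LrO 3 q p, Nat.lcm (e * p ^ Nat.clog p μ) N' ∣ N :=
  Cfsg.Agent.Helper47.O9.arO3 q p hq hq3 hp hp2 k μ e N' hk hμ hkμ he hN'

/-- (ARO4) the top level; the block `(k, μ) = (4, 1)` is excluded.  May be split by the value of `k * μ` -/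
theorem arO4 (q p : ℕ) (hq : Odd q) (hq3 : 3 ≤ q) (hp : p.Prime) (hp2 : p ≠ 2) (k μ e N' : ℕ)
    (hk : 1 ≤ k) (hμ : 1 ≤ μ) (hkμ : k * μ ≤ 4) (hne : ¬ (k = 4 ∧ μ = 1))
    (he : e = q ^ k + 1 ∨ e = q ^ k - 1) (hN' : N' ∈ LrO (4 - k * μ) q p) :
    ∃ N ∈ D9 q p, Nat.lcm (e * p ^ Nat.clog p μ) N' ∣ N :=
  Cfsg.Agent.Helper29.O9.arO4 q p hq hq3 hp hp2 k μ e N' hk hμ hkμ hne he hN'

/-! ## the characteristic polynomial of an isometry -/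

/-- (CHSR) route: helper94's `Eo.gram_of_isometry`, `Eo.charpoly_reverse_of_gram` (`Eo/P_CHAR.lean`) -/
theorem charpoly_sr (hF : Odd (Fintype.card F)) {P : OPair F} (hP : P.ND) : Eo.SR P.M.charpoly :=
  Cfsg.Agent.Helper42.O9.charpoly_sr hF hP

/-- (CHEV1) `charpoly.eval 1 = det (1 - M)` -/
theorem charpoly_eval_one {P : OPair F} (hf : P.Fpf) : P.M.charpoly.eval 1 ≠ 0 :=
  Cfsg.Agent.Helper87.O9.charpoly_eval_one hf

/-- (CHEV2) -/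
theorem charpoly_eval_neg_one {P : OPair F} (hf : P.Fpf') : P.M.charpoly.eval (-1) ≠ 0 :=
  Cfsg.Agent.Helper79.O9.charpoly_eval_neg_one hf

/-- (CHORD) Cayley–Hamilton -/
theorem ord_dvd_of_charpoly_dvd {P : OPair F} {N : ℕ} (h : P.M.charpoly ∣ X ^ N - 1) : P.ord ∣ N :=
  Cfsg.Agent.Helper79.O9.ord_dvd_of_charpoly_dvd h

/-! ## semiregular isometries -/

/-- (SEMI1) `F[M]` is a field -/
theorem semi_of_irreducible {P : OPair F} (h : Irreducible P.M.charpoly) : P.Semi :=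
  Cfsg.Agent.Helper66.O9.semi_of_irreducible h

/-- (SEMI2) `f ∣ X^j - 1 ↔ mrev f ∣ X^j - 1`; then either `f * mrev f ∣ X^j - 1` (so `M^j = 1`) or `X^j - 1` is coprime to the characteristic
polynomial (so `M^j - 1` is invertible) -/
theorem semi_of_pair {P : OPair F} {f : F[X]} (hfm : f.Monic) (hf : Irreducible f)
    (hne : Eo.mrev f ≠ f) (h : P.M.charpoly = f * Eo.mrev f) : P.Semi :=
  Cfsg.Agent.Helper66.O9.semi_of_pair hfm hf hne h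

/-- (SEMIP) an element of order `p` is unipotent -/
theorem not_dvd_ord_of_semi {P : OPair F} (h : P.Semi) (hd : 1 ≤ P.dim) : ¬ ringChar F ∣ P.ord :=
  Cfsg.Agent.Helper29.O9.not_dvd_ord_of_semi h hd

/-- (ORB) all the orbits of `⟨g⟩` on non-zero vectors have length `o(g)` -/
theorem ord_dvd_card_sphere {P : OPair F} (h : P.Semi) (c : F) (hc : c ≠ 0) :
    P.ord ∣ Nat.card {v : P.ι → F // P.Q v = c} :=
  Cfsg.Agent.Helper41.O9.ord_dvd_card_sphere h c hc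

/-- (CYC) the sign of a semiregular permutation of even order `N` on a set `X` is `(-1)^(|X|/N)`: `Equiv.Perm.sign_of_cycleType`; compare
`sign_case` in `Cfsg/Agent/Helper99/BCOrthC.lean` -/
theorem signChar_of_semi {P : OPair F} (h : P.Semi) (he : Even P.ord) (c : F) (hc : c ≠ 0) :
    signChar (⇑P.Q) c P.g = (-1) ^ (Nat.card {v : P.ι → F // P.Q v = c} / P.ord) :=
  Cfsg.Agent.Helper42.O9.signChar_of_semi h he c hc

/-- (CNT) route: `HasType` gives the number of zeros, `fc_zero_add` and `fc_eq_fc_one` of helper44's `QTypeProd`/`QTypeSim` the rest -/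
theorem card_sphere_plus8 (hF : Odd (Fintype.card F)) {P : OPair F} (hP : P.ND) (ht : P.Typ 4 1)
    (c : F) (hc : c ≠ 0) :
    Nat.card {v : P.ι → F // P.Q v = c} = Fintype.card F ^ 7 - Fintype.card F ^ 3 :=
  Cfsg.Agent.Helper65.O9.card_sphere_plus8 hF hP ht c hc

/-- (ARB) arithmetic of the sign argument -/
theorem semi_arith (q p N : ℕ) (hq : Odd q) (hp : p.Prime) (hpq : ∃ a, q = p ^ a) (hN : N ∣ q ^ 7 - q ^ 3)
    (hpN : ¬ p ∣ N) (h2 : Even N → Even ((q ^ 7 - q ^ 3) / N)) : N ∣ (q ^ 4 - 1) / 2 :=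
  Cfsg.Agent.Helper47.O9.semi_arith q p N hq hp hpq hN hpN h2

/-! ## realisations -/

/-- (SGP) a Singer cycle of `GL_k(q)` in `O^+_{2k}(q)`: order `q^k - 1`, determinant `1`, not in `Ω` (its determinant on the totally singular
subspace is a generator of `F^×`, not a square: `plusEmbed_mem_Omega_iff` of helper44's `PlusRot`); compare helper94's `Sg.real_plus` -/
theorem singer_plus (hF : Odd (Fintype.card F)) (k : ℕ) (hk : 1 ≤ k) :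
    ∃ P : OPair F, P.ND ∧ P.Typ k 1 ∧ P.ord = Fintype.card F ^ k - 1 ∧ P.M.det = 1 ∧ ¬ P.InOm :=
  Cfsg.Agent.Helper94.O9.singer_plus hF k hk

/-- (SGM) the cyclic torus of order `q^k + 1` of `O^-_{2k}(q)`: `K = F_{q^{2k}}`, `Q(x) = Tr_{K₀/F}(x σ x)`, multiplication by an element of norm `1`
of order `q^k + 1`; compare helper94's `Sg.realAbs_minus` (characteristic 2).  Determinant `1`; not in `Ω` by (CYC): semiregular, `|{Q = c}| / (q^k+1) =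
q^(k-1)` is odd.  May be split (construction / type / not in `Ω`) -/
theorem singer_minus (hF : Odd (Fintype.card F)) (k : ℕ) (hk : 1 ≤ k) :
    ∃ P : OPair F, P.ND ∧ P.Typ k (-1) ∧ P.ord = Fintype.card F ^ k + 1 ∧ P.M.det = 1 ∧ ¬ P.InOm :=
  Cfsg.Agent.Helper60.O9.singer_minus hF k hk

/-- (SOM) `Ω` has index `2` in `SO`: for `det = 1`, `g ∈ Ω ↔ signChar Q c g = 1` (`c` a non-square; `ker_omegaChar`, the parity character is the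
determinant: `parityChar_prod_reflT`, `detHom_prod_reflT`, Cartan–Dieudonné); `diag(g₁, 1) ∈ Ω ↔ g₁ ∈ Ω` (`inlIso_mem_Omega_iff`) -/
theorem sum_inOm_of_not (hF : Odd (Fintype.card F)) {P₁ P₂ : OPair F} (h₁ : P₁.ND) (h₂ : P₂.ND)
    (d₁ : P₁.M.det = 1) (d₂ : P₂.M.det = 1) (n₁ : ¬ P₁.InOm) (n₂ : ¬ P₂.InOm) :
    (P₁.sum P₂).InOm :=
  Cfsg.Agent.Helper60.O9.sum_inOm_of_not hF h₁ h₂ d₁ d₂ n₁ n₂

/-- (ARL) the least common multiples: each from two coprime divisors -/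
theorem lcm_facts (q p : ℕ) (hq : Odd q) (hq3 : 3 ≤ q) (hp : p.Prime) (hpq : p ∣ q) :
    (q ^ 4 - 1) / 2 ∣ Nat.lcm (q ^ 2 + 1) (q ^ 2 - 1) ∧
    (q ^ 3 - 1) * (q + 1) / 2 ∣ Nat.lcm (q ^ 3 - 1) (q + 1) ∧
    (q ^ 3 + 1) * (q - 1) / 2 ∣ Nat.lcm (q ^ 3 + 1) (q - 1) ∧
    p * ((q ^ 2 + 1) * (q + 1) / 2) ∣ Nat.lcm (p ^ (0 + 1)) (Nat.lcm (q ^ 2 + 1) (q + 1)) ∧
    p * ((q ^ 2 + 1) * (q - 1) / 2) ∣ Nat.lcm (p ^ (0 + 1)) (Nat.lcm (q ^ 2 + 1) (q - 1)) ∧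
    p * (q ^ 2 - 1) ∣ Nat.lcm (p ^ (0 + 1)) (Nat.lcm (q ^ 2 - 1) (q - 1)) ∧
    (p = 3 → 9 * ((q ^ 2 - 1) / 2) ∣ Nat.lcm (p ^ (1 + 1)) (Nat.lcm (q - 1) (q + 1))) :=
  Cfsg.Agent.Helper63.O9.lcm_facts q p hq hq3 hp hpq

/-- (NDIV) `p` does not divide the semisimple orders -/
theorem not_dvd_facts (q p : ℕ) (hq : Odd q) (hq3 : 3 ≤ q) (hp : p.Prime) (hpq : p ∣ q) :
    ¬ p ^ (0 + 1) ∣ Nat.lcm (q ^ 2 + 1) (q + 1) ∧ ¬ p ^ (0 + 1) ∣ Nat.lcm (q ^ 2 + 1) (q - 1) ∧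
    ¬ p ^ (0 + 1) ∣ Nat.lcm (q ^ 2 - 1) (q - 1) ∧ ¬ p ^ (1 + 1) ∣ Nat.lcm (q - 1) (q + 1) :=
  Cfsg.Agent.Helper65.O9.not_dvd_facts q p hq hq3 hp hpq

end Cfsg.Agent.Helper99.O9
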