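import Mathlib
import Cfsg.Agent.Helper99.O9.Defs
import Cfsg.Agent.Helper10.O9NEGT
import Cfsg.Agent.Helper10.O9ORD0
import Cfsg.Agent.Helper17.O9NILORD
import Cfsg.Agent.Helper2.O9PLANE
import Cfsg.Agent.Helper2.O9SIMG
import Cfsg.Agent.Helper2.O9SIMY
import Cfsg.Agent.Helper2.O9TYEX
import Cfsg.Agent.Helper23.O9EXUE
import Cfsg.Agent.Helper23.O9EXUO
import Cfsg.Agent.Helper23.O9NEGF
import Cfsg.Agent.Helper23.O9NILEX
import Cfsg.Agent.Helper24.O9SIMS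
import Cfsg.Agent.Helper41.O9AFFCONV
import Cfsg.Agent.Helper41.O9EVEN
import Cfsg.Agent.Helper41.O9SUMI
import Cfsg.Agent.Helper41.O9SUMN
import Cfsg.Agent.Helper41.O9SUMY
import Cfsg.Agent.Helper48.O9SUMC
import Cfsg.Agent.Helper48.O9SUMS
import Cfsg.Agent.Helper48.O9T8
import Cfsg.Agent.Helper48.O9T9
import Cfsg.Agent.Helper49.O9DVD
import Cfsg.Agent.Helper50.O9NEGI
import Cfsg.Agent.Helper50.O9NEGN
import Cfsg.Agent.Helper67.O9NEGE
import Cfsg.Agent.Helper67.O9NEGO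
import Cfsg.Agent.Helper68.O9NEG8M
import Cfsg.Agent.Helper68.O9SIMI
import Cfsg.Agent.Helper68.O9SIMM
import Cfsg.Agent.Helper68.O9SUMD
import Cfsg.Agent.Helper70.O9NEG8P
import Cfsg.Agent.Helper70.O9NEGSUM
import Cfsg.Agent.Helper70.O9SIMA
import Cfsg.Agent.Helper70.O9SIMD
import Cfsg.Agent.Helper70.O9SIMO
import Cfsg.Agent.Helper72.O9NEGS
import Cfsg.Agent.Helper72.O9SUMU
import Cfsg.Agent.Helper86.O9FIT
import Cfsg.Agent.Helper86.O9SPLIT
import Cfsg.Agent.Helper90.O9ODD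
import Cfsg.Agent.Helper90.O9SUMO
import Cfsg.Agent.Helper99.O9.BackAFFSUM
import Cfsg.Agent.Helper99.O9.BackNILU
import Cfsg.Agent.Helper99.O9.BackPAR

set_option autoImplicit false
set_option linter.unusedSectionVars false
set_option linter.unusedVariables false

/-!
# Glue for S2517: the pieces of WANTED #13715, restated under uniform names
-/

namespace Cfsg.Agent.Helper99.O9

open Matrix QuadraticMap Cfsg.Agent.Helper44 Cfsg.Agent.Helper44.QType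

universe u

variable {F : Type u} [Field F] [Fintype F]

/-! ## A. isometric pairs -/

/-- (SIMS) -/
theorem sim_symm {P P' : OPair F} (h : P.Sim P') : P'.Sim P :=
  Cfsg.Agent.Helper24.O9.sim_symm h

/-- (SIMT) -/
theorem sim_trans {P P' P'' : OPair F} (h : P.Sim P') (h' : P'.Sim P'') : P.Sim P'' :=
  Cfsg.Agent.Helper24.O9.sim_trans h h'

/-- (SIMM) an isometry of pairs conjugates the matrices: route `conjMatAlgEquiv C` of helper44's `IsoTransport` -/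
theorem sim_mat {P P' : OPair F} (h : P.Sim P') :
    ∃ e : Matrix P.ι P.ι F ≃ₐ[F] Matrix P'.ι P'.ι F, e P.M = P'.M :=
  Cfsg.Agent.Helper68.O9.sim_mat h

/-- (SIMO) -/
theorem sim_ord {P P' : OPair F} (h : P.Sim P') : P.ord = P'.ord :=
  Cfsg.Agent.Helper70.O9.sim_ord h

/-- (SIMD) -/
theorem sim_dim {P P' : OPair F} (h : P.Sim P') : P.dim = P'.dim :=
  Cfsg.Agent.Helper70.O9.sim_dim h

/-- (SIMI) route: `isoTransport` is a group hom, `map_mem_commutator` -/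
theorem sim_inOm {P P' : OPair F} (h : P.Sim P') (hP : P.InOm) : P'.InOm :=
  Cfsg.Agent.Helper68.O9.sim_inOm h hP

/-- (SIMY) route: `HasType.congr` -/
theorem sim_typ {P P' : OPair F} (h : P.Sim P') {m : ℕ} {ε : ℤ} (hP : P.Typ m ε) : P'.Typ m ε :=
  Cfsg.Agent.Helper2.O9.sim_typ h hP

/-- (SIMA) route: (SIMM), (SIMO) -/
theorem sim_aff {P P' : OPair F} (h : P.Sim P') (hP : P.Aff) : P'.Aff :=
  Cfsg.Agent.Helper70.O9.sim_aff h hP

/-- (SIMG) `-1 ∈ Ω` is invariant -/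
theorem sim_negOm {P P' : OPair F} (h : P.Sim P') (hP : P.NegOm) : P'.NegOm :=
  Cfsg.Agent.Helper2.O9.sim_negOm h hP

/-! ## B. orthogonal sums -/

/-- (SUMD) -/
theorem sum_dim (P₁ P₂ : OPair F) : (P₁.sum P₂).dim = P₁.dim + P₂.dim :=
  Cfsg.Agent.Helper68.O9.sum_dim P₁ P₂

/-- (SUMN) route: `nondegenerate_orthSumForm`, `OrthRealizeC.nondeg_iff` -/
theorem sum_nd {P₁ P₂ : OPair F} (h₁ : P₁.ND) (h₂ : P₂.ND) : (P₁.sum P₂).ND :=
  Cfsg.Agent.Helper41.O9.sum_nd h₁ h₂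

/-- (SUMO) the order of a block diagonal matrix -/
theorem sum_ord (P₁ P₂ : OPair F) : (P₁.sum P₂).ord = Nat.lcm P₁.ord P₂.ord :=
  Cfsg.Agent.Helper90.O9.sum_ord P₁ P₂

/-- (SUMY) route: `HasType.orthSum` -/
theorem sum_typ {P₁ P₂ : OPair F} (h₁ : P₁.ND) (h₂ : P₂.ND) {m₁ m₂ : ℕ} {ε₁ ε₂ : ℤ}
    (t₁ : P₁.Typ m₁ ε₁) (t₂ : P₂.Typ m₂ ε₂) : (P₁.sum P₂).Typ (m₁ + m₂) (ε₁ * ε₂) :=
  Cfsg.Agent.Helper41.O9.sum_typ h₁ h₂ t₁ t₂

/-- (SUMI) route: `blockDiagIso_mem_Omega` -/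
theorem sum_inOm {P₁ P₂ : OPair F} (h₁ : P₁.InOm) (h₂ : P₂.InOm) : (P₁.sum P₂).InOm :=
  Cfsg.Agent.Helper41.O9.sum_inOm h₁ h₂

/-- (SUMC) route: `diag(g₁,g₂) = diag(g₁,1) diag(1,g₂)`, so `diag(1,g₂) ∈ Ω`; then `inlIso_mem_Omega_iff` of helper44's
`OrthSumOmega` after swapping the two summands -/
theorem sum_inOm_right (hF : Odd (Fintype.card F)) {P₁ P₂ : OPair F} (h₁ : P₁.ND) (h₂ : P₂.ND)
    (h : (P₁.sum P₂).InOm) (hg : P₁.InOm) : P₂.InOm :=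
  Cfsg.Agent.Helper48.O9.sum_inOm_right hF h₁ h₂ h hg

/-- (SUMS) sums of isometric pairs are isometric -/
theorem sum_sim {P₁ P₂ P₁' P₂' : OPair F} (h₁ : P₁.Sim P₁') (h₂ : P₂.Sim P₂') :
    (P₁.sum P₂).Sim (P₁'.sum P₂') :=
  Cfsg.Agent.Helper48.O9.sum_sim h₁ h₂

/-- (SUMU) -/
theorem sum_unip {P₁ P₂ : OPair F} (h₁ : P₁.Unip) (h₂ : P₂.Unip) : (P₁.sum P₂).Unip :=
  Cfsg.Agent.Helper72.O9.sum_unip h₁ h₂

/-- (ORD0) -/
theorem ord_of_dim_zero {P : OPair F} (h : P.dim = 0) : P.ord = 1 :=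
  Cfsg.Agent.Helper10.O9.ord_of_dim_zero h

/-! ## C. isometries -/

/-- (ODD) elements of odd order lie in `Ω`: route: `O/Ω` is an elementary abelian 2-group (`ker_omegaChar` of helper44's
`OmegaIndex`) -/
theorem inOm_of_odd (hF : Odd (Fintype.card F)) {P : OPair F} (hP : P.ND) (ho : Odd P.ord) : P.InOm :=
  Cfsg.Agent.Helper90.O9.inOm_of_odd hF hP ho

/-- (EVEN) `det g₂ = (-1)^(dim)` for an isometry without the eigenvalue `1` (from `g⁻¹ = G⁻¹ gᵀ G`), `det = 1` on `Ω` and for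
unipotent matrices -/
theorem even_dim_of_fpf (hF : Odd (Fintype.card F)) {P₁ P₂ : OPair F} (h₁ : P₁.ND) (h₂ : P₂.ND)
    (hu : P₁.Unip) (hf : P₂.Fpf) (h : (P₁.sum P₂).InOm) : Even P₂.dim :=
  Cfsg.Agent.Helper41.O9.even_dim_of_fpf hF h₁ h₂ hu hf h

/-- (SPLIT) the splitting lemma (`SplitStmt` in the Defs): choose bases of `U` and `W` (`Fin (finrank U)`, `Fin (finrank W)`), restrict the form,
the matrices of the restrictions of `g`; the isometry `C` is `x ↦ (coordinates of the two components)` -/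
theorem split : SplitStmt F :=
  Cfsg.Agent.Helper86.O9.split 

/-- (FIT) Fitting decomposition of an isometry with respect to `N = g - 1`: `U = ker N^n`, `W = range N^n` (`n = dim`) are invariant,
complementary (`LinearMap.isCompl_ker_pow_range_pow`-like in Mathlib) and orthogonal (`B(N^n x, y) = B(x, (g⁻¹ - 1)^n y)` and
`(g⁻¹ - 1)^n = (-g⁻¹)^n N^n`); then (SPLIT), given as a hypothesis.  If the first summand is zero then `g - 1` is invertible -/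
theorem fit_of_split (hS : SplitStmt F) (hF : Odd (Fintype.card F)) (P : OPair F) (hP : P.ND) :
    ∃ P₁ P₂ : OPair F, P₁.ND ∧ P₂.ND ∧ P₁.Unip ∧ P₂.Fpf ∧ P.Sim (P₁.sum P₂) ∧
      (P₁.dim = 0 → P.Fpf) :=
  Cfsg.Agent.Helper86.O9.fit_of_split hS hF P hP

/-- (NILEX) -/
theorem exists_nil {P : OPair F} (hu : P.Unip) : ∃ t, P.Nil t ∧ t ≤ P.dim :=
  Cfsg.Agent.Helper23.O9.exists_nil hu

/-- (NILU) -/
theorem unip_of_nil {P : OPair F} {t : ℕ} (h : P.Nil t) : P.Unip :=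
  Cfsg.Agent.Helper99.O9.Back.unip_of_nil h

/-- (PAR) a unipotent isometry `u` of a non-degenerate space of even dimension `n > 0` has `(u - 1)^(n-1) = 0`.
Route: with `N = u - 1` of index `n`, the form `β(x,y) = B(N^(n-1) x, y)` is alternating (adjoint of `N` is `-u⁻¹N`, `n - 1` odd,
`u` is trivial on `im N^(n-1)`) and factors through the line `V / ker N^(n-1)`, so it vanishes -/
theorem nil_lt_of_even (hF : Odd (Fintype.card F)) {P : OPair F} (hP : P.ND) (he : Even P.dim)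
    (h1 : 1 ≤ P.dim) {t : ℕ} (h : P.Nil t) : t + 1 ≤ P.dim :=
  Cfsg.Agent.Helper99.O9.Back.nil_lt_of_even hF hP he h1 h

/-- (NILORD) `u^(p^k) - 1 = (u - 1)^(p^k)` -/
theorem nil_ord {P : OPair F} {t : ℕ} (h : P.Nil t) (k : ℕ) :
    P.ord ∣ ringChar F ^ k ↔ t ≤ ringChar F ^ k :=
  Cfsg.Agent.Helper17.O9.nil_ord h k

/-- (AFFSUM) the norm matrix of `diag(u, g₂)`, `u` unipotent of nilpotency index `p^e` (so `Σ_{i<p^e} u^i = (u-1)^(p^e-1) ≠ 0`) and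
`p^(e+1) ∤ o(g₂)` -/
theorem aff_sum {P₁ P₂ : OPair F} {e : ℕ} (h1 : P₁.Nil (ringChar F ^ e))
    (h2 : ¬ ringChar F ^ (e + 1) ∣ P₂.ord) :
    (P₁.sum P₂).Aff ∧ ringChar F * (P₁.sum P₂).ord = Nat.lcm (ringChar F ^ (e + 1)) P₂.ord :=
  Cfsg.Agent.Helper99.O9.Back.aff_sum h1 h2

/-- (AFFCONV) the converse: `Σ_{i<N} g₂^i = 0` if `g₂ - 1` is invertible and `g₂^N = 1` -/
theorem aff_conv {P₁ P₂ : OPair F} (hu : P₁.Unip) (hf : P₂.Fpf) (h : (P₁.sum P₂).Aff) :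
    ∃ e, P₁.Nil (ringChar F ^ e) ∧ ¬ ringChar F ^ (e + 1) ∣ P₂.ord :=
  Cfsg.Agent.Helper41.O9.aff_conv hu hf h

/-! ## D. existence -/

/-- (EXUE) a unipotent isometry of Jordan type `(t, 1, …, 1)` on a space of dimension `2 m` and type `ε`.
Route: helper99's `OrthJT*` (`hgood_of_multiset`, `exists_plus_isometry`; `oddGood_of_multiset`, `mgood_of_oddGood_oddGood`,
`exists_minus_isometry`), the `kdim` of `x - 1` determines the index -/
theorem exu_even (hF : Odd (Fintype.card F)) (m : ℕ) (ε : ℤ) (hε : ε = 1 ∨ ε = -1) (t : ℕ)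
    (ht : Odd t) (htm : t + 1 ≤ 2 * m) : ∃ P : OPair F, P.ND ∧ P.Typ m ε ∧ P.Nil t :=
  Cfsg.Agent.Helper23.O9.exu_even hF m ε hε t ht htm

/-- (EXUO) the same in odd dimension `n`: route `oddGood_of_multiset`, `exists_odd_isometry` -/
theorem exu_odd (hF : Odd (Fintype.card F)) (n t : ℕ) (hn : Odd n) (ht : Odd t) (htn : t ≤ n) :
    ∃ P : OPair F, P.ND ∧ P.dim = n ∧ P.Nil t :=
  Cfsg.Agent.Helper23.O9.exu_odd hF n t hn ht htn

/-- (TYEX) route: `exists_hasType` of helper44's `QTypeClassify` -/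
theorem exists_typ {P : OPair F} (hP : P.ND) {m : ℕ} (hd : P.dim = 2 * m) :
    ∃ ε : ℤ, (ε = 1 ∨ ε = -1) ∧ P.Typ m ε :=
  Cfsg.Agent.Helper2.O9.exists_typ hP hd

/-- (PLANE) a plane `X` with `-1 ∈ Ω(X)`: the hyperbolic plane if `q ≡ 1 (4)`, the anisotropic plane if `q ≡ 3 (4)`:
`exists_neg_one_mem_Omega_plus_iff`, `exists_neg_one_mem_Omega_minus_iff` of helper44's `StdNondeg` -/
theorem exists_negOm_plane (hF : Odd (Fintype.card F)) :
    ∃ (ε : ℤ) (X : OPair F), (ε = 1 ∨ ε = -1) ∧ X.ND ∧ X.Typ 1 ε ∧ X.NegOm :=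
  Cfsg.Agent.Helper2.O9.exists_negOm_plane hF

/-! ## E. the isometry `-1` -/

/-- (NEG8P) route: `exists_isometry_of_hasType` to the standard form, `exists_neg_one_mem_Omega_plus_iff`, (SIMG) -/
theorem negOm_plus8 (hF : Odd (Fintype.card F)) {P : OPair F} (hP : P.ND) (ht : P.Typ 4 1) :
    P.NegOm :=
  Cfsg.Agent.Helper70.O9.negOm_plus8 hF hP ht

/-- (NEG8M) route: the same with `exists_neg_one_mem_Omega_minus_iff` -/
theorem not_negOm_minus8 (hF : Odd (Fintype.card F)) {P : OPair F} (hP : P.ND) (ht : P.Typ 4 (-1)) :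
    ¬ P.NegOm :=
  Cfsg.Agent.Helper68.O9.not_negOm_minus8 hF hP ht

/-- (NEGSUM) route: `exists_neg_one_mem_Omega_iff` of helper44's `OrthBasis` (`-1 ∈ Ω ↔` the Gram determinant is a square), the Gram
matrix of an orthogonal sum is block diagonal -/
theorem negOm_sum_iff (hF : Odd (Fintype.card F)) {P₁ P₂ : OPair F} (h₁ : P₁.ND) (h₂ : P₂.ND)
    (e₁ : Even P₁.dim) (e₂ : Even P₂.dim) : (P₁.sum P₂).NegOm ↔ (P₁.NegOm ↔ P₂.NegOm) :=
  Cfsg.Agent.Helper70.O9.negOm_sum_iff hF h₁ h₂ e₁ e₂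

/-- (NEGI) -/
theorem neg_inOm {P : OPair F} (hn : P.NegOm) (hP : P.InOm) : P.neg.InOm :=
  Cfsg.Agent.Helper50.O9.neg_inOm hn hP

/-- (NEGN) -/
theorem neg_neg_sim (P : OPair F) : P.neg.neg.Sim P :=
  Cfsg.Agent.Helper50.O9.neg_neg_sim P

/-- (NEGS) -/
theorem neg_sum_sim (P₁ P₂ : OPair F) : (P₁.sum P₂).neg.Sim (P₁.neg.sum P₂.neg) :=
  Cfsg.Agent.Helper72.O9.neg_sum_sim P₁ P₂

/-- (NEGT) -/
theorem sim_neg {P P' : OPair F} (h : P.Sim P') : P.neg.Sim P'.neg :=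
  Cfsg.Agent.Helper10.O9.sim_neg h

/-- (NEGO) -/
theorem neg_ord_of_odd (hF : Odd (Fintype.card F)) {P : OPair F} (ho : Odd P.ord) (hd : 1 ≤ P.dim) :
    P.neg.ord = 2 * P.ord :=
  Cfsg.Agent.Helper67.O9.neg_ord_of_odd hF ho hd

/-- (NEGE) -/
theorem neg_ord_of_even {P : OPair F} (ho : Even P.ord) : P.neg.ord ∣ P.ord :=
  Cfsg.Agent.Helper67.O9.neg_ord_of_even ho

/-- (NEGF) `(-g) - 1 = -(g + 1)` -/
theorem neg_fpf_iff {P : OPair F} : P.neg.Fpf ↔ P.Fpf' :=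
  Cfsg.Agent.Helper23.O9.neg_fpf_iff 

/-! ## F. the two groups -/

/-- (T9) route: `mem_range_POmega_iff` of helper99's `PGBridge`, `exists_similarity_odd` + `mem_isometryGroup_smul_iff` of
helper44's `OrthOddA`, `nondeg_oddForm`; the isometry groups of `Q` and `a Q` are the same subgroup of `GL` -/
theorem spec_lhs (hF : Odd (Fintype.card F)) (N : ℕ) :
    N ∈ Set.range (orderOf : Cfsg.POmega F (Cfsg.quadFormOdd 4 F) → ℕ) ↔ OmR F 9 N :=
  Cfsg.Agent.Helper48.O9.spec_lhs hF N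

/-- (T8) route: `(v, g)^n = (Σ_{i<n} g^i v, g^n)` as in `Cfsg.Agent.S2516` (`orderOf_eq_mul`, `addOrderOf_eq_of_charP`);
`hasType_minus`, `exists_isometry_of_hasType`, (SIM*) -/
theorem spec_rhs (hF : Odd (Fintype.card F)) (a b : F)
    (hab : ∀ z₁ z₂ : F, z₁ ^ 2 + a * z₁ * z₂ + b * z₂ ^ 2 = 0 → z₁ = 0 ∧ z₂ = 0) (N : ℕ) :
    N ∈ Set.range (orderOf :
        (Multiplicative (((Fin 3 ⊕ Fin 3) ⊕ Fin 2) → F)) ⋊[
          (MulAutMultiplicative (((Fin 3 ⊕ Fin 3) ⊕ Fin 2) → F)).symm.toMonoidHom.comp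
           ((DistribMulAction.toAddAut (LinearMap.GeneralLinearGroup F (((Fin 3 ⊕ Fin 3) ⊕ Fin 2) → F))
              (((Fin 3 ⊕ Fin 3) ⊕ Fin 2) → F)).comp
            (Matrix.GeneralLinearGroup.toLin.toMonoidHom.comp
              ((Cfsg.isometryGroup F (Cfsg.quadFormMinus 3 F a b)).subtype.comp
                (Cfsg.Omega F (Cfsg.quadFormMinus 3 F a b)).subtype)))]
          ↥(Cfsg.Omega F (Cfsg.quadFormMinus 3 F a b)) → ℕ) ↔
      (0 < N ∧ (EvR F 4 (-1) N ∨ AfR F 4 (-1) N)) :=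
  Cfsg.Agent.Helper48.O9.spec_rhs hF a b hab N

/-- (DVD) element orders of a group are closed under divisors -/
theorem exists_orderOf_of_dvd {G : Type*} [Group G] {N N' : ℕ} (hN' : 0 < N')
    (h : N' ∈ Set.range (orderOf : G → ℕ)) (hd : N ∣ N') : N ∈ Set.range (orderOf : G → ℕ) :=
  Cfsg.Agent.Helper49.O9.exists_orderOf_of_dvd hN' h hd

end Cfsg.Agent.Helper99.O9
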