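import Mathlib
import Cfsg.Agent.Helper99.O9.Defs
import Cfsg.Agent.Helper99.O9.Glue

set_option autoImplicit false
set_option linter.unusedSectionVars false
set_option linter.unusedVariables false

/-!
# S2517: lemmas derived from the farmed pieces (`Glue.lean`)
-/

namespace Cfsg.Agent.Helper99.O9

open Matrix QuadraticMap Cfsg.Agent.Helper44 Cfsg.Agent.Helper44.QType

universe u

variable {F : Type u} [Field F] [Fintype F]



/-- (FIT) -/
theorem fit (hF : Odd (Fintype.card F)) (P : OPair F) (hP : P.ND) :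
    ∃ P₁ P₂ : OPair F, P₁.ND ∧ P₂.ND ∧ P₁.Unip ∧ P₂.Fpf ∧ P.Sim (P₁.sum P₂) ∧
      (P₁.dim = 0 → P.Fpf) := fit_of_split split hF P hP

theorem ord_pos (P : OPair F) : 0 < P.ord := by
  unfold OPair.ord
  exact orderOf_pos P.g

theorem ringChar_prime' : (ringChar F).Prime := CharP.char_is_prime F (ringChar F)

theorem ringChar_odd' (hF : Odd (Fintype.card F)) : Odd (ringChar F) := by
  have hp : (ringChar F).Prime := ringChar_prime'
  have hdvd : ringChar F ∣ Fintype.card F := by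
    rw [← CharP.cast_eq_zero_iff F (ringChar F)]
    exact Nat.cast_card_eq_zero F
  rcases hp.eq_two_or_odd' with h2 | ho
  · exfalso
    rw [h2] at hdvd
    exact (Nat.not_even_iff_odd.mpr hF) (even_iff_two_dvd.mpr hdvd)
  · exact ho

/-- the order of a unipotent isometry from its nilpotency index -/
theorem ord_eq_pow_of_nil {P : OPair F} {t : ℕ} (hn : P.Nil t) :
    ∃ k, P.ord = ringChar F ^ k ∧ t ≤ ringChar F ^ k ∧ (k ≠ 0 → ringChar F ^ (k - 1) < t) := by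
  have hp : (ringChar F).Prime := ringChar_prime'
  have h1 : P.ord ∣ ringChar F ^ t := (nil_ord hn t).mpr (Nat.lt_pow_self hp.one_lt).le
  obtain ⟨k, -, hk⟩ := (Nat.dvd_prime_pow hp).1 h1
  refine ⟨k, hk, (nil_ord hn k).mp (by rw [hk]), ?_⟩
  intro hk0
  by_contra hle
  rw [not_lt] at hle
  have h2 := (nil_ord hn (k - 1)).mpr hle
  rw [hk] at h2
  have := (Nat.pow_dvd_pow_iff_le_right hp.one_lt).mp h2
  omega

/-- (UORD) -/
theorem unip_ord {P : OPair F} (hu : P.Unip) :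
    ∃ k, P.ord = ringChar F ^ k ∧ (k ≠ 0 → ringChar F ^ (k - 1) < P.dim) := by
  obtain ⟨t, hn, htd⟩ := exists_nil hu
  obtain ⟨k, hk, -, hk2⟩ := ord_eq_pow_of_nil hn
  exact ⟨k, hk, fun h => lt_of_lt_of_le (hk2 h) htd⟩

/-- (UORDE) -/
theorem unip_ord_even (hF : Odd (Fintype.card F)) {P : OPair F} (hP : P.ND) (hu : P.Unip)
    (he : Even P.dim) :
    ∃ k, P.ord = ringChar F ^ k ∧ (k ≠ 0 → ringChar F ^ (k - 1) + 1 < P.dim) := by
  obtain ⟨t, hn, htd⟩ := exists_nil hu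
  obtain ⟨k, hk, -, hk2⟩ := ord_eq_pow_of_nil hn
  refine ⟨k, hk, fun h => ?_⟩
  have h1 := hk2 h
  have hd1 : 1 ≤ P.dim := by omega
  have := nil_lt_of_even hF hP he hd1 hn
  omega

/-- (NILPOW) -/
theorem ord_of_nil_pow {P : OPair F} {e : ℕ} (h : P.Nil (ringChar F ^ e)) : P.ord = ringChar F ^ e := by
  have hp : (ringChar F).Prime := ringChar_prime'
  obtain ⟨k, hk, hk1, hk2⟩ := ord_eq_pow_of_nil h
  have h1 : e ≤ k := (Nat.pow_le_pow_iff_right hp.one_lt).mp hk1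
  rcases Nat.eq_or_lt_of_le h1 with rfl | hlt
  · exact hk
  · exfalso
    have h2 := hk2 (by omega)
    have h3 : k - 1 < e := (Nat.pow_lt_pow_iff_right hp.one_lt).mp h2
    omega

/-- (NILP2) -/
theorem ord_of_nil_pow_add_two (hF : Odd (Fintype.card F)) {P : OPair F} {e : ℕ}
    (h : P.Nil (ringChar F ^ e + 2)) : P.ord = ringChar F ^ (e + 1) := by
  have hp : (ringChar F).Prime := ringChar_prime'
  have hpo : Odd (ringChar F) := ringChar_odd' hF
  have hp3 : 3 ≤ ringChar F := by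
    have := hp.two_le
    obtain ⟨r, hr⟩ := hpo
    omega
  obtain ⟨k, hk, hk1, hk2⟩ := ord_eq_pow_of_nil h
  have hpe : 1 ≤ ringChar F ^ e := Nat.one_le_pow _ _ hp.pos
  have h1 : e < k := by
    apply (Nat.pow_lt_pow_iff_right hp.one_lt).mp
    omega
  rcases Nat.eq_or_lt_of_le (Nat.succ_le_of_lt h1) with h2 | hlt
  · rw [hk, ← h2]
  · exfalso
    have h2 := hk2 (by omega)
    have h3 : ringChar F ^ (e + 1) ≤ ringChar F ^ (k - 1) :=
      Nat.pow_le_pow_right hp.pos (by omega)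
    have h4 : 3 * ringChar F ^ e ≤ ringChar F ^ (e + 1) := by
      rw [pow_succ, mul_comm]
      exact Nat.mul_le_mul_left _ hp3
    omega

theorem hr_of_evR {N : ℕ} (hN : 0 < N) (h : EvR F 4 (-1) N) : HR F N := ⟨N, dvd_rfl, hN, Or.inl h⟩

theorem hr_of_afR {N : ℕ} (hN : 0 < N) (h : AfR F 4 (-1) N) : HR F N := ⟨N, dvd_rfl, hN, Or.inr h⟩

theorem hr_of_dvd {N N' : ℕ} (h : HR F N') (hd : N ∣ N') : HR F N := by
  obtain ⟨N'', h1, h2, h3⟩ := h
  exact ⟨N'', hd.trans h1, h2, h3⟩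

theorem neg_mul_self_of {ε : ℤ} (h : ε = 1 ∨ ε = -1) : -ε * ε = -1 := by
  rcases h with rfl | rfl <;> norm_num

theorem neg_cases_of {ε : ℤ} (h : ε = 1 ∨ ε = -1) : -ε = 1 ∨ -ε = -1 := by
  rcases h with rfl | rfl <;> simp

theorem ord_of_nil_one {P : OPair F} (h : P.Nil 1) : P.ord = 1 := by
  have h' : P.Nil (ringChar F ^ 0) := by simpa using h
  simpa using ord_of_nil_pow h'

/-- arithmetic: `p · lcm(p^e, o) = lcm(p^(e+1), o)` if `p^(e+1) ∤ o` -/
theorem mul_lcm_pow {p : ℕ} (hp : p.Prime) (e o : ℕ) (ho : 0 < o) (h : ¬ p ^ (e + 1) ∣ o) :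
    p * Nat.lcm (p ^ e) o = Nat.lcm (p ^ (e + 1)) o := by
  obtain ⟨j, m, hm, rfl⟩ := Nat.exists_eq_pow_mul_and_not_dvd ho.ne' p hp.ne_one
  have hje : j ≤ e := by
    by_contra hlt
    rw [not_le] at hlt
    exact h (Dvd.dvd.mul_right (pow_dvd_pow p hlt) m)
  have hcop : ∀ i, Nat.Coprime (p ^ i) m := fun i =>
    Nat.Coprime.pow_left i ((Nat.Prime.coprime_iff_not_dvd hp).mpr hm)
  have key : ∀ i, j ≤ i → Nat.lcm (p ^ i) (p ^ j * m) = p ^ i * m := by
    intro i hi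
    obtain ⟨d, rfl⟩ := Nat.exists_eq_add_of_le hi
    have h1 : p ^ (j + d) = p ^ j * p ^ d := pow_add p j d
    rw [h1, Nat.lcm_mul_left, (hcop d).lcm_eq_mul]
    ring
  rw [key e hje, key (e + 1) (by omega), pow_succ]
  ring


end Cfsg.Agent.Helper99.O9
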