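import Mathlib
import Cfsg.Agent.Helper99.O9.Defs
import Cfsg.Agent.Helper99.O9.C7Defs
import Cfsg.Agent.Helper99.O9.Tools
import Cfsg.Agent.Helper99.O9.C7Glue
import Cfsg.Agent.Helper44.Spinor
import Cfsg.Agent.Helper94.Eo.Defs

set_option autoImplicit false
set_option linter.unusedSectionVars false
set_option linter.unusedVariables false

/-!
# S2517, case (C7): `g ∈ Ω_8^+(q)`, `q` odd, without the eigenvalues `±1` — assembly
-/

namespace Cfsg.Agent.Helper99.O9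

open Matrix Polynomial QuadraticMap Cfsg.Agent.Helper44 Cfsg.Agent.Helper44.QType Cfsg.Agent.Helper94

universe u

variable {F : Type u} [Field F] [Fintype F]



section c7asm

theorem card_odd_ge_three (hF : Odd (Fintype.card F)) : 3 ≤ Fintype.card F := by
  have h1 : 1 < Fintype.card F := Fintype.one_lt_card
  obtain ⟨t, ht⟩ := hF
  omega

theorem ringChar_dvd_card : ringChar F ∣ Fintype.card F := by
  rw [← CharP.cast_eq_zero_iff F (ringChar F)]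
  exact Nat.cast_card_eq_zero F

theorem ringChar_ne_two (hF : Odd (Fintype.card F)) : ringChar F ≠ 2 := by
  intro h
  have := ringChar_odd' hF
  rw [h] at this
  exact absurd this (by decide)

theorem card_eq_ringChar_pow : ∃ a, Fintype.card F = ringChar F ^ a := by
  have : Fact (ringChar F).Prime := ⟨ringChar_prime'⟩
  obtain ⟨n, -, hn⟩ := FiniteField.card F (ringChar F)
  exact ⟨n, hn⟩

theorem covO_of_peel {ψ B ψ' : F[X]} {b N' N : ℕ} (hψ : ψ = B * ψ') (hcop : IsCoprime B ψ')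
    (hB : B ∣ X ^ b - 1) (hψ' : ψ' ∣ X ^ N' - 1) (hN : Nat.lcm b N' ∣ N) : ψ ∣ X ^ N - 1 := by
  have h1 : B ∣ X ^ N - 1 :=
    hB.trans (Eo.X_pow_sub_one_dvd ((Nat.dvd_lcm_left b N').trans hN))
  have h2 : ψ' ∣ X ^ N - 1 :=
    hψ'.trans (Eo.X_pow_sub_one_dvd ((Nat.dvd_lcm_right b N').trans hN))
  rw [hψ]
  exact hcop.mul_dvd h1 h2

/-- the inductive step below the top level -/
theorem covO_succ (hF : Odd (Fintype.card F)) (r : ℕ) (hr : 1 ≤ r)
    (ar : ∀ k μ e N' : ℕ, 1 ≤ k → 1 ≤ μ → k * μ ≤ r →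
      (e = Fintype.card F ^ k + 1 ∨ e = Fintype.card F ^ k - 1) →
      N' ∈ LrO (r - k * μ) (Fintype.card F) (ringChar F) →
      ∃ N ∈ LrO r (Fintype.card F) (ringChar F),
        Nat.lcm (e * ringChar F ^ Nat.clog (ringChar F) μ) N' ∣ N)
    (ih : ∀ r' : ℕ, r' < r → ∀ ψ' : F[X], ψ'.Monic → Eo.SR ψ' → ψ'.eval 1 ≠ 0 → ψ'.eval (-1) ≠ 0 →
      ψ'.natDegree = 2 * r' → CovO (LrO r' (Fintype.card F) (ringChar F)) ψ')
    (ψ : F[X]) (hm : ψ.Monic) (hsr : Eo.SR ψ) (h1 : ψ.eval 1 ≠ 0) (h1' : ψ.eval (-1) ≠ 0)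
    (hdeg : ψ.natDegree = 2 * r) : CovO (LrO r (Fintype.card F) (ringChar F)) ψ := by
  obtain ⟨k, μ, e, B, ψ', hk, hμ, hkμ, he, hfac, hcop, hB, hm', hsr', h1', h1'', hdeg', -⟩ :=
    peel_odd hF hr hm hsr h1 h1' hdeg
  have hpos : 0 < k * μ := Nat.mul_pos hk hμ
  obtain ⟨N', hN', hdvd'⟩ := ih (r - k * μ) (by omega) ψ' hm' hsr' h1' h1'' hdeg'
  obtain ⟨N, hN, hlcm⟩ := ar k μ e N' hk hμ hkμ he hN'
  exact ⟨N, hN, covO_of_peel hfac hcop hB hdvd' hlcm⟩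

theorem covO0 (ψ : F[X]) (hm : ψ.Monic) (hdeg : ψ.natDegree = 2 * 0) :
    CovO (LrO 0 (Fintype.card F) (ringChar F)) ψ := by
  have h1 : ψ = 1 := by
    rw [← hm.natDegree_eq_zero]
    simpa using hdeg
  refine ⟨1, by rw [LrO_zero]; simp, ?_⟩
  rw [h1]
  exact one_dvd _

theorem covO1 (hF : Odd (Fintype.card F)) (ψ : F[X]) (hm : ψ.Monic) (hsr : Eo.SR ψ)
    (h1 : ψ.eval 1 ≠ 0) (h1' : ψ.eval (-1) ≠ 0) (hdeg : ψ.natDegree = 2 * 1) :
    CovO (LrO 1 (Fintype.card F) (ringChar F)) ψ := by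
  refine covO_succ hF 1 le_rfl (fun k μ e N' hk hμ hkμ he hN' =>
    arO1 _ _ hF (card_odd_ge_three hF) ringChar_prime' (ringChar_ne_two hF) k μ e N' hk hμ hkμ he hN')
    ?_ ψ hm hsr h1 h1' hdeg
  intro r' hr' ψ' hm' hsr' h1' h1'' hdeg'
  have : r' = 0 := by omega
  subst this
  exact covO0 ψ' hm' hdeg'

theorem covO2 (hF : Odd (Fintype.card F)) (ψ : F[X]) (hm : ψ.Monic) (hsr : Eo.SR ψ)
    (h1 : ψ.eval 1 ≠ 0) (h1' : ψ.eval (-1) ≠ 0) (hdeg : ψ.natDegree = 2 * 2) :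
    CovO (LrO 2 (Fintype.card F) (ringChar F)) ψ := by
  refine covO_succ hF 2 (by norm_num) (fun k μ e N' hk hμ hkμ he hN' =>
    arO2 _ _ hF (card_odd_ge_three hF) ringChar_prime' (ringChar_ne_two hF) k μ e N' hk hμ hkμ he hN')
    ?_ ψ hm hsr h1 h1' hdeg
  intro r' hr' ψ' hm' hsr' h1' h1'' hdeg'
  have : r' = 0 ∨ r' = 1 := by omega
  rcases this with rfl | rfl
  · exact covO0 ψ' hm' hdeg'
  · exact covO1 hF ψ' hm' hsr' h1' h1'' hdeg'

theorem covO3 (hF : Odd (Fintype.card F)) (ψ : F[X]) (hm : ψ.Monic) (hsr : Eo.SR ψ)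
    (h1 : ψ.eval 1 ≠ 0) (h1' : ψ.eval (-1) ≠ 0) (hdeg : ψ.natDegree = 2 * 3) :
    CovO (LrO 3 (Fintype.card F) (ringChar F)) ψ := by
  refine covO_succ hF 3 (by norm_num) (fun k μ e N' hk hμ hkμ he hN' =>
    arO3 _ _ hF (card_odd_ge_three hF) ringChar_prime' (ringChar_ne_two hF) k μ e N' hk hμ hkμ he hN')
    ?_ ψ hm hsr h1 h1' hdeg
  intro r' hr' ψ' hm' hsr' h1' h1'' hdeg'
  have : r' = 0 ∨ r' = 1 ∨ r' = 2 := by omega
  rcases this with rfl | rfl | rfl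
  · exact covO0 ψ' hm' hdeg'
  · exact covO1 hF ψ' hm' hsr' h1' h1'' hdeg'
  · exact covO2 hF ψ' hm' hsr' h1' h1'' hdeg'

theorem covO_le3 (hF : Odd (Fintype.card F)) (r : ℕ) (hr : r ≤ 3) (ψ : F[X]) (hm : ψ.Monic)
    (hsr : Eo.SR ψ) (h1 : ψ.eval 1 ≠ 0) (h1' : ψ.eval (-1) ≠ 0) (hdeg : ψ.natDegree = 2 * r) :
    CovO (LrO r (Fintype.card F) (ringChar F)) ψ := by
  have : r = 0 ∨ r = 1 ∨ r = 2 ∨ r = 3 := by omega
  rcases this with rfl | rfl | rfl | rfl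
  · exact covO0 ψ hm hdeg
  · exact covO1 hF ψ hm hsr h1 h1' hdeg
  · exact covO2 hF ψ hm hsr h1 h1' hdeg
  · exact covO3 hF ψ hm hsr h1 h1' hdeg

/-- (COV) the covering in degree 8 -/
theorem cov_odd (hF : Odd (Fintype.card F)) (χ : F[X]) (hm : χ.Monic) (hdeg : χ.natDegree = 2 * 4)
    (hsr : Eo.SR χ) (h1 : χ.eval 1 ≠ 0) (h1' : χ.eval (-1) ≠ 0) :
    Irreducible χ ∨ (∃ f : F[X], f.Monic ∧ Irreducible f ∧ Eo.mrev f ≠ f ∧ χ = f * Eo.mrev f) ∨
      CovO (D9 (Fintype.card F) (ringChar F)) χ := by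
  obtain ⟨k, μ, e, B, ψ', hk, hμ, hkμ, he, hfac, hcop, hB, hm', hsr', h1'', h1''', hdeg', hex⟩ :=
    peel_odd hF (by norm_num) hm hsr h1 h1' hdeg
  by_cases h41 : k = 4 ∧ μ = 1
  · rcases hex h41.2 h41.1 with h | h
    · exact Or.inl h
    · exact Or.inr (Or.inl h)
  · right; right
    have hpos : 0 < k * μ := Nat.mul_pos hk hμ
    obtain ⟨N', hN', hdvd'⟩ := covO_le3 hF (4 - k * μ) (by omega) ψ' hm' hsr' h1'' h1''' hdeg'
    obtain ⟨N, hN, hlcm⟩ := arO4 _ _ hF (card_odd_ge_three hF) ringChar_prime' (ringChar_ne_two hF)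
      k μ e N' hk hμ hkμ h41 he hN'
    exact ⟨N, hN, covO_of_peel hfac hcop hB hdvd' hlcm⟩

/-- a semiregular element of `Ω_8^+(q)` has order dividing `(q^4-1)/2` -/
theorem semi_bound (hF : Odd (Fintype.card F)) {P : OPair F} (hP : P.ND) (ht : P.Typ 4 1)
    (hO : P.InOm) (hS : P.Semi) : P.ord ∣ (Fintype.card F ^ 4 - 1) / 2 := by
  obtain ⟨c, hc⟩ : ∃ c : F, c ≠ 0 := ⟨1, one_ne_zero⟩
  have hcnt := card_sphere_plus8 hF hP ht c hc
  have hd1 : 1 ≤ P.dim := by rw [ht.1]; norm_num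
  apply semi_arith (Fintype.card F) (ringChar F) P.ord hF ringChar_prime' card_eq_ringChar_pow
  · rw [← hcnt]
    exact ord_dvd_card_sphere hS c hc
  · exact not_dvd_ord_of_semi hS hd1
  · intro he
    have h1 := signChar_of_semi hS he c hc
    have h2 : signChar (⇑P.Q) c P.g = 1 := hom_eq_one_of_mem_Omega _ hO
    rw [h2, hcnt] at h1
    by_contra hodd
    rw [Nat.not_even_iff_odd] at hodd
    rw [hodd.neg_one_pow] at h1
    exact absurd h1 (by decide)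

/-- a plane of type `ε` with the identity -/
theorem exists_plane (hF : Odd (Fintype.card F)) (ε : ℤ) (hε : ε = 1 ∨ ε = -1) :
    ∃ Z : OPair F, Z.ND ∧ Z.Typ 1 ε ∧ Z.Nil (ringChar F ^ 0) ∧ Z.InOm := by
  obtain ⟨Z, hZ, htZ, hnZ⟩ := exu_even hF 1 ε hε 1 odd_one (by norm_num)
  have ho : Z.ord = 1 := ord_of_nil_one hnZ
  exact ⟨Z, hZ, htZ, by simpa using hnZ, inOm_of_odd hF hZ (by rw [ho]; exact odd_one)⟩

theorem real_B (hF : Odd (Fintype.card F)) : HR F ((Fintype.card F ^ 4 - 1) / 2) := by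
  obtain ⟨A, hA, htA, hoA, hdA, hnA⟩ := singer_minus hF 2 (by norm_num)
  obtain ⟨B, hB, htB, hoB, hdB, hnB⟩ := singer_plus hF 2 (by norm_num)
  have hfacts := lcm_facts (Fintype.card F) (ringChar F) hF (card_odd_ge_three hF) ringChar_prime'
    ringChar_dvd_card
  refine ⟨(A.sum B).ord, ?_, ord_pos _, Or.inl ⟨A.sum B, sum_nd hA hB, ?_,
    sum_inOm_of_not hF hA hB hdA hdB hnA hnB, rfl⟩⟩
  · rw [sum_ord, hoA, hoB]
    exact hfacts.1
  · have h := sum_typ hA hB htA htB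
    rwa [show (2 : ℕ) + 2 = 4 from rfl, show (-1 : ℤ) * 1 = -1 by norm_num] at h

theorem real_Cp (hF : Odd (Fintype.card F)) :
    HR F ((Fintype.card F ^ 3 - 1) * (Fintype.card F + 1) / 2) := by
  obtain ⟨A, hA, htA, hoA, hdA, hnA⟩ := singer_plus hF 3 (by norm_num)
  obtain ⟨B, hB, htB, hoB, hdB, hnB⟩ := singer_minus hF 1 (by norm_num)
  have hfacts := lcm_facts (Fintype.card F) (ringChar F) hF (card_odd_ge_three hF) ringChar_prime'
    ringChar_dvd_card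
  refine ⟨(A.sum B).ord, ?_, ord_pos _, Or.inl ⟨A.sum B, sum_nd hA hB, ?_,
    sum_inOm_of_not hF hA hB hdA hdB hnA hnB, rfl⟩⟩
  · rw [sum_ord, hoA, hoB, pow_one]
    exact hfacts.2.1
  · have h := sum_typ hA hB htA htB
    rwa [show (3 : ℕ) + 1 = 4 from rfl, show (1 : ℤ) * -1 = -1 by norm_num] at h

theorem real_Cm (hF : Odd (Fintype.card F)) :
    HR F ((Fintype.card F ^ 3 + 1) * (Fintype.card F - 1) / 2) := by
  obtain ⟨A, hA, htA, hoA, hdA, hnA⟩ := singer_minus hF 3 (by norm_num)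
  obtain ⟨B, hB, htB, hoB, hdB, hnB⟩ := singer_plus hF 1 (by norm_num)
  have hfacts := lcm_facts (Fintype.card F) (ringChar F) hF (card_odd_ge_three hF) ringChar_prime'
    ringChar_dvd_card
  refine ⟨(A.sum B).ord, ?_, ord_pos _, Or.inl ⟨A.sum B, sum_nd hA hB, ?_,
    sum_inOm_of_not hF hA hB hdA hdB hnA hnB, rfl⟩⟩
  · rw [sum_ord, hoA, hoB, pow_one]
    exact hfacts.2.2.1
  · have h := sum_typ hA hB htA htB
    rwa [show (3 : ℕ) + 1 = 4 from rfl, show (-1 : ℤ) * 1 = -1 by norm_num] at h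

theorem real_Fp (hF : Odd (Fintype.card F)) :
    HR F (ringChar F * ((Fintype.card F ^ 2 + 1) * (Fintype.card F + 1) / 2)) := by
  obtain ⟨A, hA, htA, hoA, hdA, hnA⟩ := singer_minus hF 2 (by norm_num)
  obtain ⟨B, hB, htB, hoB, hdB, hnB⟩ := singer_minus hF 1 (by norm_num)
  obtain ⟨Z, hZ, htZ, hnZ, hZO⟩ := exists_plane hF (-1) (Or.inr rfl)
  have hfacts := lcm_facts (Fintype.card F) (ringChar F) hF (card_odd_ge_three hF) ringChar_prime'
    ringChar_dvd_card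
  have hnfacts := not_dvd_facts (Fintype.card F) (ringChar F) hF (card_odd_ge_three hF)
    ringChar_prime' ringChar_dvd_card
  have h2O : (A.sum B).InOm := sum_inOm_of_not hF hA hB hdA hdB hnA hnB
  have h2ord : (A.sum B).ord = Nat.lcm (Fintype.card F ^ 2 + 1) (Fintype.card F + 1) := by
    rw [sum_ord, hoA, hoB, pow_one]
  have hnd : ¬ ringChar F ^ (0 + 1) ∣ (A.sum B).ord := by rw [h2ord]; exact hnfacts.1
  obtain ⟨hAff, hN⟩ := aff_sum (P₁ := Z) (P₂ := A.sum B) hnZ hnd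
  refine ⟨ringChar F * (Z.sum (A.sum B)).ord, ?_, Nat.mul_pos ringChar_prime'.pos (ord_pos _),
    Or.inr ⟨Z.sum (A.sum B), sum_nd hZ (sum_nd hA hB), ?_, sum_inOm hZO h2O, hAff, rfl⟩⟩
  · rw [hN, h2ord]
    exact hfacts.2.2.2.1
  · have h := sum_typ hZ (sum_nd hA hB) htZ (sum_typ hA hB htA htB)
    rwa [show (1 : ℕ) + (2 + 1) = 4 from rfl, show (-1 : ℤ) * (-1 * -1) = -1 by norm_num] at h

theorem real_Fm (hF : Odd (Fintype.card F)) :
    HR F (ringChar F * ((Fintype.card F ^ 2 + 1) * (Fintype.card F - 1) / 2)) := by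
  obtain ⟨A, hA, htA, hoA, hdA, hnA⟩ := singer_minus hF 2 (by norm_num)
  obtain ⟨B, hB, htB, hoB, hdB, hnB⟩ := singer_plus hF 1 (by norm_num)
  obtain ⟨Z, hZ, htZ, hnZ, hZO⟩ := exists_plane hF 1 (Or.inl rfl)
  have hfacts := lcm_facts (Fintype.card F) (ringChar F) hF (card_odd_ge_three hF) ringChar_prime'
    ringChar_dvd_card
  have hnfacts := not_dvd_facts (Fintype.card F) (ringChar F) hF (card_odd_ge_three hF)
    ringChar_prime' ringChar_dvd_card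
  have h2O : (A.sum B).InOm := sum_inOm_of_not hF hA hB hdA hdB hnA hnB
  have h2ord : (A.sum B).ord = Nat.lcm (Fintype.card F ^ 2 + 1) (Fintype.card F - 1) := by
    rw [sum_ord, hoA, hoB, pow_one]
  have hnd : ¬ ringChar F ^ (0 + 1) ∣ (A.sum B).ord := by rw [h2ord]; exact hnfacts.2.1
  obtain ⟨hAff, hN⟩ := aff_sum (P₁ := Z) (P₂ := A.sum B) hnZ hnd
  refine ⟨ringChar F * (Z.sum (A.sum B)).ord, ?_, Nat.mul_pos ringChar_prime'.pos (ord_pos _),
    Or.inr ⟨Z.sum (A.sum B), sum_nd hZ (sum_nd hA hB), ?_, sum_inOm hZO h2O, hAff, rfl⟩⟩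
  · rw [hN, h2ord]
    exact hfacts.2.2.2.2.1
  · have h := sum_typ hZ (sum_nd hA hB) htZ (sum_typ hA hB htA htB)
    rwa [show (1 : ℕ) + (2 + 1) = 4 from rfl, show (1 : ℤ) * (-1 * 1) = -1 by norm_num] at h

theorem real_G (hF : Odd (Fintype.card F)) : HR F (ringChar F * (Fintype.card F ^ 2 - 1)) := by
  obtain ⟨A, hA, htA, hoA, hdA, hnA⟩ := singer_plus hF 2 (by norm_num)
  obtain ⟨B, hB, htB, hoB, hdB, hnB⟩ := singer_plus hF 1 (by norm_num)
  obtain ⟨Z, hZ, htZ, hnZ, hZO⟩ := exists_plane hF (-1) (Or.inr rfl)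
  have hfacts := lcm_facts (Fintype.card F) (ringChar F) hF (card_odd_ge_three hF) ringChar_prime'
    ringChar_dvd_card
  have hnfacts := not_dvd_facts (Fintype.card F) (ringChar F) hF (card_odd_ge_three hF)
    ringChar_prime' ringChar_dvd_card
  have h2O : (A.sum B).InOm := sum_inOm_of_not hF hA hB hdA hdB hnA hnB
  have h2ord : (A.sum B).ord = Nat.lcm (Fintype.card F ^ 2 - 1) (Fintype.card F - 1) := by
    rw [sum_ord, hoA, hoB, pow_one]
  have hnd : ¬ ringChar F ^ (0 + 1) ∣ (A.sum B).ord := by rw [h2ord]; exact hnfacts.2.2.1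
  obtain ⟨hAff, hN⟩ := aff_sum (P₁ := Z) (P₂ := A.sum B) hnZ hnd
  refine ⟨ringChar F * (Z.sum (A.sum B)).ord, ?_, Nat.mul_pos ringChar_prime'.pos (ord_pos _),
    Or.inr ⟨Z.sum (A.sum B), sum_nd hZ (sum_nd hA hB), ?_, sum_inOm hZO h2O, hAff, rfl⟩⟩
  · rw [hN, h2ord]
    exact hfacts.2.2.2.2.2.1
  · have h := sum_typ hZ (sum_nd hA hB) htZ (sum_typ hA hB htA htB)
    rwa [show (1 : ℕ) + (2 + 1) = 4 from rfl, show (-1 : ℤ) * (1 * 1) = -1 by norm_num] at h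

theorem real_nine (hF : Odd (Fintype.card F)) (hp3 : ringChar F = 3) :
    HR F (9 * ((Fintype.card F ^ 2 - 1) / 2)) := by
  obtain ⟨A, hA, htA, hoA, hdA, hnA⟩ := singer_plus hF 1 (by norm_num)
  obtain ⟨B, hB, htB, hoB, hdB, hnB⟩ := singer_minus hF 1 (by norm_num)
  obtain ⟨W, hW, htW, hnW⟩ := exu_even hF 2 1 (Or.inl rfl) 3 (by decide) (by norm_num)
  have hnW' : W.Nil (ringChar F ^ 1) := by rw [hp3]; simpa using hnW
  have hWord : W.ord = ringChar F ^ 1 := ord_of_nil_pow hnW'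
  have hWO : W.InOm := inOm_of_odd hF hW (by rw [hWord]; exact (ringChar_odd' hF).pow)
  have hfacts := lcm_facts (Fintype.card F) (ringChar F) hF (card_odd_ge_three hF) ringChar_prime'
    ringChar_dvd_card
  have hnfacts := not_dvd_facts (Fintype.card F) (ringChar F) hF (card_odd_ge_three hF)
    ringChar_prime' ringChar_dvd_card
  have h2O : (A.sum B).InOm := sum_inOm_of_not hF hA hB hdA hdB hnA hnB
  have h2ord : (A.sum B).ord = Nat.lcm (Fintype.card F - 1) (Fintype.card F + 1) := by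
    rw [sum_ord, hoA, hoB, pow_one]
  have hnd : ¬ ringChar F ^ (1 + 1) ∣ (A.sum B).ord := by rw [h2ord]; exact hnfacts.2.2.2
  obtain ⟨hAff, hN⟩ := aff_sum (P₁ := W) (P₂ := A.sum B) hnW' hnd
  refine ⟨ringChar F * (W.sum (A.sum B)).ord, ?_, Nat.mul_pos ringChar_prime'.pos (ord_pos _),
    Or.inr ⟨W.sum (A.sum B), sum_nd hW (sum_nd hA hB), ?_, sum_inOm hWO h2O, hAff, rfl⟩⟩
  · rw [hN, h2ord]
    exact hfacts.2.2.2.2.2.2 hp3
  · have h := sum_typ hW (sum_nd hA hB) htW (sum_typ hA hB htA htB)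
    rwa [show (2 : ℕ) + (1 + 1) = 4 from rfl, show (1 : ℤ) * (1 * -1) = -1 by norm_num] at h

theorem real_D9 (hF : Odd (Fintype.card F)) (N : ℕ) (hN : N ∈ D9 (Fintype.card F) (ringChar F)) :
    HR F N := by
  rcases mem_D9.mp hN with rfl | rfl | rfl | rfl | rfl | rfl | ⟨hp3, rfl⟩
  · exact real_B hF
  · exact real_Cp hF
  · exact real_Cm hF
  · exact real_Fp hF
  · exact real_Fm hF
  · exact real_G hF
  · exact real_nine hF hp3

/-- (C7) -/
theorem c7 (hF : Odd (Fintype.card F)) {P : OPair F} (hP : P.ND) (ht : P.Typ 4 1) (hO : P.InOm)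
    (hf : P.Fpf) (hf' : P.Fpf') : HR F P.ord := by
  have hm : P.M.charpoly.Monic := Matrix.charpoly_monic _
  have hdeg : P.M.charpoly.natDegree = 2 * 4 := by
    rw [Matrix.charpoly_natDegree_eq_dim]
    exact ht.1
  rcases cov_odd hF _ hm hdeg (charpoly_sr hF hP) (charpoly_eval_one hf) (charpoly_eval_neg_one hf')
    with hirr | ⟨f, hfm, hfi, hne, hχ⟩ | ⟨N, hN, hdvd⟩
  · exact hr_of_dvd (real_B hF) (semi_bound hF hP ht hO (semi_of_irreducible hirr))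
  · exact hr_of_dvd (real_B hF) (semi_bound hF hP ht hO (semi_of_pair hfm hfi hne hχ))
  · exact hr_of_dvd (real_D9 hF N hN) (ord_dvd_of_charpoly_dvd hdvd)

end c7asm

end Cfsg.Agent.Helper99.O9
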