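import Mathlib
import Cfsg.Agent.Helper99.O9.Defs
import Cfsg.Agent.Helper99.O9.Tools
import Cfsg.Agent.Helper99.O9.C7

set_option autoImplicit false
set_option linter.unusedSectionVars false
set_option linter.unusedVariables false

/-!
# S2517: `ω(PΩ_9(q)) = ω(F_q^8 ⋊ Ω_8^-(q))`, `q` odd — the main assembly

Structural comparison: Fitting decomposition of an isometry with respect to the eigenvalue `1`; the unipotent part (dimension `a`, odd in
`Ω_9`) is replaced by one of dimension `a - 1` in `Ω_8^-`, the translation part of `F^8 ⋊ Ω_8^-` regaining the factor `p`.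
-/

namespace Cfsg.Agent.Helper99.O9

open Matrix QuadraticMap Cfsg.Agent.Helper44 Cfsg.Agent.Helper44.QType

universe u

variable {F : Type u} [Field F] [Fintype F]

/-- (A3) the unipotent part has dimension at least three -/
theorem a3 (hF : Odd (Fintype.card F)) {P₁ P₂ : OPair F} (h₁ : P₁.ND) (h₂ : P₂.ND) (hu : P₁.Unip)
    (ha : Odd P₁.dim) (ha3 : 3 ≤ P₁.dim) (hd : P₁.dim + P₂.dim = 9) (hO : P₂.InOm) :
    HR F (Nat.lcm P₁.ord P₂.ord) := by
  have hp : (ringChar F).Prime := ringChar_prime'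
  have hpo : Odd (ringChar F) := ringChar_odd' hF
  obtain ⟨k, hk, hkd⟩ := unip_ord hu
  obtain ⟨c, hc⟩ := ha
  have hd2 : P₂.dim = 2 * (4 - c) := by omega
  obtain ⟨ε₂, hε₂, ht₂⟩ := exists_typ h₂ hd2
  have hεε := neg_mul_self_of hε₂
  have hε' := neg_cases_of hε₂
  have hc4 : c + (4 - c) = 4 := by omega
  by_cases hcase : k = 0 ∨ ringChar F ^ k ∣ P₂.ord
  · obtain ⟨W, hW, htW, hnW⟩ := exu_even hF c (-ε₂) hε' 1 odd_one (by omega)
    have hWord : W.ord = 1 := ord_of_nil_one hnW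
    have hWO : W.InOm := inOm_of_odd hF hW (by rw [hWord]; exact odd_one)
    have hlcm : Nat.lcm P₁.ord P₂.ord = P₂.ord := by
      rw [hk]
      rcases hcase with rfl | h
      · simp
      · exact Nat.lcm_eq_right h
    rw [hlcm]
    refine hr_of_evR (ord_pos P₂) ⟨W.sum P₂, sum_nd hW h₂, ?_, sum_inOm hWO hO, ?_⟩
    · have := sum_typ hW h₂ htW ht₂
      rwa [hεε, hc4] at this
    · rw [sum_ord, hWord]
      simp
  · obtain ⟨hk0, hnd⟩ := not_or.mp hcase
    obtain ⟨e, rfl⟩ : ∃ e, k = e + 1 := ⟨k - 1, by omega⟩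
    have hpe : ringChar F ^ e < P₁.dim := by simpa using hkd (by omega)
    have hpodd : Odd (ringChar F ^ e) := hpo.pow
    have hle : ringChar F ^ e + 1 ≤ 2 * c := by
      obtain ⟨r, hr⟩ := hpodd
      omega
    obtain ⟨W, hW, htW, hnW⟩ := exu_even hF c (-ε₂) hε' (ringChar F ^ e) hpodd hle
    have hWord := ord_of_nil_pow hnW
    have hWO : W.InOm := inOm_of_odd hF hW (by rw [hWord]; exact hpodd)
    obtain ⟨hA, hN⟩ := aff_sum (P₂ := P₂) hnW hnd
    have hlcm : Nat.lcm P₁.ord P₂.ord = ringChar F * (W.sum P₂).ord := by rw [hN, hk]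
    rw [hlcm]
    refine hr_of_afR (Nat.mul_pos hp.pos (ord_pos _))
      ⟨W.sum P₂, sum_nd hW h₂, ?_, sum_inOm hWO hO, hA, rfl⟩
    have := sum_typ hW h₂ htW ht₂
    rwa [hεε, hc4] at this

/-- a line with the identity -/
theorem exists_line (hF : Odd (Fintype.card F)) :
    ∃ L : OPair F, L.ND ∧ L.dim = 1 ∧ L.ord = 1 ∧ L.Unip ∧ L.InOm := by
  obtain ⟨L, hL, hd, hn⟩ := exu_odd hF 1 1 odd_one odd_one le_rfl
  have ho : L.ord = 1 := ord_of_nil_one hn
  exact ⟨L, hL, hd, ho, unip_of_nil hn, inOm_of_odd hF hL (by rw [ho]; exact odd_one)⟩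

/-- (SUP) -/
theorem sup (hF : Odd (Fintype.card F)) {N : ℕ} (h : EvR F 4 (-1) N) : OmR F 9 N := by
  obtain ⟨P, hP, ht, hO, ho⟩ := h
  obtain ⟨L, hL, hd, hLo, -, hLO⟩ := exists_line hF
  refine ⟨P.sum L, ?_, sum_nd hP hL, sum_inOm hO hLO, ?_⟩
  · rw [sum_dim, hd, ht.1]
  · rw [sum_ord, hLo, ho]
    simp

/-- (SUPA) -/
theorem sup_aff (hF : Odd (Fintype.card F)) {N : ℕ} (h : AfR F 4 (-1) N) : OmR F 9 N := by
  have hp : (ringChar F).Prime := ringChar_prime'
  have hpo : Odd (ringChar F) := ringChar_odd' hF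
  obtain ⟨P, hP, ht, hO, hA, hN⟩ := h
  obtain ⟨P₁, P₂, h₁, h₂, hu, hf, hsim, -⟩ := fit hF P hP
  have hsO : (P₁.sum P₂).InOm := sim_inOm hsim hO
  have hsA : (P₁.sum P₂).Aff := sim_aff hsim hA
  obtain ⟨e, hn, hnd⟩ := aff_conv hu hf hsA
  have he2 : Even P₂.dim := even_dim_of_fpf hF h₁ h₂ hu hf hsO
  have hdim : P₁.dim + P₂.dim = 8 := by
    rw [← sum_dim, ← sim_dim hsim, ht.1]
  have he1 : Even P₁.dim := by
    obtain ⟨r, hr⟩ := he2
    exact ⟨4 - r, by omega⟩
  have h1ord : P₁.ord = ringChar F ^ e := ord_of_nil_pow hn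
  have hpodd : Odd (ringChar F ^ e) := hpo.pow
  have h1O : P₁.InOm := inOm_of_odd hF h₁ (by rw [h1ord]; exact hpodd)
  have h2O : P₂.InOm := sum_inOm_right hF h₁ h₂ hsO h1O
  have hd1 : 1 ≤ P₁.dim := by
    by_contra h0
    have h0' : P₁.dim = 0 := by omega
    obtain ⟨-, hn2⟩ := hn
    have := hn2 0 (pos_of_ne_zero (pow_ne_zero e hp.ne_zero))
    apply this
    rw [pow_zero]
    have : IsEmpty P₁.ι := Fintype.card_eq_zero_iff.mp h0'
    exact Subsingleton.elim _ _
  have hle : ringChar F ^ e + 1 ≤ P₁.dim := nil_lt_of_even hF h₁ he1 hd1 hn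
  obtain ⟨U, hU, hUd, hUn⟩ := exu_odd hF (P₁.dim + 1) (ringChar F ^ e + 2) he1.add_one
    (by obtain ⟨r, hr⟩ := hpodd; exact ⟨r + 1, by omega⟩) (by omega)
  have hUo : U.ord = ringChar F ^ (e + 1) := ord_of_nil_pow_add_two hF hUn
  have hUO : U.InOm := inOm_of_odd hF hU (by rw [hUo]; exact hpo.pow)
  refine ⟨U.sum P₂, ?_, sum_nd hU h₂, sum_inOm hUO h2O, ?_⟩
  · rw [sum_dim, hUd]
    omega
  · rw [sum_ord, hUo, ← hN, sim_ord hsim, sum_ord, h1ord]
    exact (mul_lcm_pow hp e P₂.ord (ord_pos P₂) hnd).symm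

/-- arithmetic: `lcm(A, 2B) = 2 lcm(A, B)` for odd `A` -/
theorem lcm_two_mul_of_odd {A : ℕ} (hA : Odd A) (B : ℕ) : Nat.lcm A (2 * B) = 2 * Nat.lcm A B := by
  have hc : Nat.Coprime 2 A := (Nat.coprime_two_left).mpr hA
  have hg : Nat.gcd A (2 * B) = Nat.gcd A B := Nat.Coprime.gcd_mul_left_cancel_right B hc
  have h1 : Nat.gcd A B ∣ A * B := Dvd.dvd.mul_right (Nat.gcd_dvd_left A B) B
  unfold Nat.lcm
  rw [hg, show A * (2 * B) = 2 * (A * B) by ring, Nat.mul_div_assoc 2 h1]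

theorem one_inOm (P : OPair F) : P.one.InOm := by
  unfold OPair.InOm
  rw [OPair.one_g]
  exact Subgroup.one_mem _

theorem one_ord (P : OPair F) : P.one.ord = 1 := by
  unfold OPair.ord
  rw [OPair.one_g]
  exact orderOf_one

/-- (CNEG) `g ∈ Ω_8^+(q)` without the eigenvalue `1`, with the eigenvalue `-1` -/
theorem cneg (hF : Odd (Fintype.card F)) {P : OPair F} (hP : P.ND) (ht : P.Typ 4 1) (hO : P.InOm)
    (hf : P.Fpf) (hf' : ¬ P.Fpf') : HR F P.ord := by
  have hp : (ringChar F).Prime := ringChar_prime'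
  have hpo : Odd (ringChar F) := ringChar_odd' hF
  have hp3 : 3 ≤ ringChar F := by
    have := hp.two_le
    obtain ⟨r, hr⟩ := hpo
    omega
  have hKnd : P.neg.ND := hP
  have hKt : P.neg.Typ 4 1 := ht
  have hKO : P.neg.InOm := neg_inOm (negOm_plus8 hF hP ht) hO
  obtain ⟨K₁, K₂, h₁, h₂, hu, hf₂, hsim, hfit0⟩ := fit hF P.neg hKnd
  have hsO : (K₁.sum K₂).InOm := sim_inOm hsim hKO
  have he2 : Even K₂.dim := even_dim_of_fpf hF h₁ h₂ hu hf₂ hsO
  have hdim : K₁.dim + K₂.dim = 8 := by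
    rw [← sum_dim, ← sim_dim hsim]
    exact hKt.1
  have he1 : Even K₁.dim := by
    obtain ⟨r, hr⟩ := he2
    exact ⟨4 - r, by omega⟩
  have hd1 : 1 ≤ K₁.dim := by
    by_contra h0
    exact hf' (neg_fpf_iff.mp (hfit0 (by omega)))
  obtain ⟨c₁, hc₁⟩ := he1
  obtain ⟨c₂, hc₂⟩ := he2
  have hc12 : c₁ + c₂ = 4 := by omega
  have hc₁' : K₁.dim = 2 * c₁ := by omega
  have hc₂' : K₂.dim = 2 * c₂ := by omega
  obtain ⟨j, hj, hjd⟩ := unip_ord_even hF h₁ hu ⟨c₁, hc₁⟩
  have hpj : Odd (ringChar F ^ j) := hpo.pow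
  have h1O : K₁.InOm := inOm_of_odd hF h₁ (by rw [hj]; exact hpj)
  have h2O : K₂.InOm := sum_inOm_right hF h₁ h₂ hsO h1O
  have hsimP : P.Sim (K₁.neg.sum K₂.neg) :=
    sim_trans (sim_symm (neg_neg_sim P)) (sim_trans (sim_neg hsim) (neg_sum_sim K₁ K₂))
  have hPord : P.ord = Nat.lcm K₁.neg.ord K₂.neg.ord := by rw [sim_ord hsimP, sum_ord]
  have hK1n : K₁.neg.ord = 2 * ringChar F ^ j := by
    rw [neg_ord_of_odd hF (by rw [hj]; exact hpj) hd1, hj]
  rcases Nat.even_or_odd K₂.ord with hev | hodd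
  · -- `o(K₂)` even: `o(g)` divides `o(-g)`, and `-g` has a unipotent part of dimension `≥ 3` in dimension 9
    have hdvd : K₂.neg.ord ∣ K₂.ord := neg_ord_of_even hev
    obtain ⟨L, hL, hLd, hLo, hLu, hLO⟩ := exists_line hF
    have hLKd : (L.sum K₁).dim = K₁.dim + 1 := by rw [sum_dim, hLd]; ring
    have h3 := a3 hF (sum_nd hL h₁) h₂ (sum_unip hLu hu) (by rw [hLKd]; exact ⟨c₁, by omega⟩)
      (by rw [hLKd]; omega) (by rw [hLKd]; omega) h2O
    rw [sum_ord, hLo, Nat.lcm_one_left, hj] at h3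
    refine hr_of_dvd h3 ?_
    rw [hPord, hK1n]
    apply Nat.lcm_dvd
    · apply Nat.Coprime.mul_dvd_of_dvd_of_dvd ((Nat.coprime_two_left).mpr hpj)
      · exact (even_iff_two_dvd.mp hev).trans (Nat.dvd_lcm_right _ _)
      · exact Nat.dvd_lcm_left _ _
    · exact hdvd.trans (Nat.dvd_lcm_right _ _)
  · -- `o(K₂)` odd
    by_cases hb8 : K₂.dim = 0
    · -- `g = -u`
      have hK2n : K₂.neg.ord = 1 := ord_of_dim_zero (P := K₂.neg) hb8
      have hPo : P.ord = 2 * ringChar F ^ j := by rw [hPord, hK1n, hK2n, Nat.lcm_one_right]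
      rw [hPo]
      obtain ⟨εX, X, hεX, hXnd, hXt, hXneg⟩ := exists_negOm_plane hF
      have hXnO : X.one.neg.InOm := neg_inOm (P := X.one) hXneg (one_inOm X)
      have hXnd' : X.one.neg.ND := hXnd
      have hXt' : X.one.neg.Typ 1 εX := hXt
      have hXno : X.one.neg.ord = 2 := by
        rw [neg_ord_of_odd hF (by rw [one_ord]; exact odd_one) (by
          have : X.one.dim = 2 * 1 := hXt.1
          omega), one_ord]
      have hεε := neg_mul_self_of hεX
      have hε' := neg_cases_of hεX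
      rcases Nat.eq_zero_or_pos j with rfl | hjpos
      · obtain ⟨W, hW, htW, hnW⟩ := exu_even hF 3 (-εX) hε' 1 odd_one (by omega)
        have hWord : W.ord = 1 := ord_of_nil_one hnW
        have hWO : W.InOm := inOm_of_odd hF hW (by rw [hWord]; exact odd_one)
        refine hr_of_evR (by norm_num) ⟨W.sum X.one.neg, sum_nd hW hXnd', ?_, sum_inOm hWO hXnO, ?_⟩
        · have := sum_typ hW hXnd' htW hXt'
          rwa [hεε] at this
        · rw [sum_ord, hWord, hXno]
          simp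
      · obtain ⟨e, rfl⟩ : ∃ e, j = e + 1 := ⟨j - 1, by omega⟩
        have hpe : ringChar F ^ e + 1 < K₁.dim := by simpa using hjd (by omega)
        have hpodd : Odd (ringChar F ^ e) := hpo.pow
        have hle : ringChar F ^ e + 1 ≤ 2 * 3 := by
          obtain ⟨r, hr⟩ := hpodd
          omega
        obtain ⟨W, hW, htW, hnW⟩ := exu_even hF 3 (-εX) hε' (ringChar F ^ e) hpodd hle
        have hWord := ord_of_nil_pow hnW
        have hWO : W.InOm := inOm_of_odd hF hW (by rw [hWord]; exact hpodd)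
        have hnd : ¬ ringChar F ^ (e + 1) ∣ X.one.neg.ord := by
          rw [hXno]
          intro hd
          have h1 := Nat.le_of_dvd (by norm_num) hd
          have h2 : ringChar F ^ 1 ≤ ringChar F ^ (e + 1) :=
            Nat.pow_le_pow_right hp.pos (by omega)
          rw [pow_one] at h2
          omega
        obtain ⟨hA, hN⟩ := aff_sum (P₂ := X.one.neg) hnW hnd
        have hcop : Nat.Coprime (ringChar F ^ (e + 1)) 2 :=
          (Nat.coprime_two_right).mpr hpo.pow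
        have hlcm : 2 * ringChar F ^ (e + 1) = ringChar F * (W.sum X.one.neg).ord := by
          rw [hN, hXno, hcop.lcm_eq_mul, mul_comm]
        rw [hlcm]
        refine hr_of_afR (Nat.mul_pos hp.pos (ord_pos _))
          ⟨W.sum X.one.neg, sum_nd hW hXnd', ?_, sum_inOm hWO hXnO, hA, rfl⟩
        have := sum_typ hW hXnd' htW hXt'
        rwa [hεε] at this
    · -- both parts are present
      have hd2 : 1 ≤ K₂.dim := by omega
      have hK2n : K₂.neg.ord = 2 * K₂.ord := neg_ord_of_odd hF hodd hd2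
      have hPo : P.ord = 2 * Nat.lcm (ringChar F ^ j) K₂.ord := by
        rw [hPord, hK1n, hK2n, Nat.lcm_mul_left]
      rw [hPo]
      obtain ⟨ε₁, hε₁, ht₁⟩ := exists_typ h₁ hc₁'
      obtain ⟨ε₂, hε₂, ht₂⟩ := exists_typ h₂ hc₂'
      have hεε := neg_mul_self_of hε₂
      have hε' := neg_cases_of hε₂
      have hc1pos : 1 ≤ c₁ := by omega
      have ht₂' : K₂.neg.Typ c₂ ε₂ := ht₂
      have h₂' : K₂.neg.ND := h₂
      have h₁' : K₁.neg.ND := h₁
      by_cases hneg : K₁.NegOm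
      · -- `-1 ∈ Ω(K₁)`: then `-g₂ ∈ Ω(K₂)`
        have hK1nO : K₁.neg.InOm := neg_inOm hneg h1O
        have hK2nO : K₂.neg.InOm := sum_inOm_right hF h₁' h₂' (sim_inOm hsimP hO) hK1nO
        by_cases hcase : j = 0 ∨ ringChar F ^ j ∣ K₂.neg.ord
        · obtain ⟨W, hW, htW, hnW⟩ := exu_even hF c₁ (-ε₂) hε' 1 odd_one (by omega)
          have hWord : W.ord = 1 := ord_of_nil_one hnW
          have hWO : W.InOm := inOm_of_odd hF hW (by rw [hWord]; exact odd_one)
          have hlcm : Nat.lcm (ringChar F ^ j) K₂.ord = K₂.ord := by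
            rcases hcase with rfl | h
            · simp
            · apply Nat.lcm_eq_right
              rw [hK2n] at h
              exact (Nat.Coprime.dvd_mul_left ((Nat.coprime_two_right).mpr hpj)).mp h
          rw [hlcm]
          refine hr_of_evR (Nat.mul_pos (by norm_num) (ord_pos _))
            ⟨W.sum K₂.neg, sum_nd hW h₂', ?_, sum_inOm hWO hK2nO, ?_⟩
          · have := sum_typ hW h₂' htW ht₂'
            rwa [hεε, hc12] at this
          · rw [sum_ord, hWord, hK2n]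
            simp
        · obtain ⟨hj0, hnd⟩ := not_or.mp hcase
          obtain ⟨e, rfl⟩ : ∃ e, j = e + 1 := ⟨j - 1, by omega⟩
          have hpe : ringChar F ^ e + 1 < K₁.dim := by simpa using hjd (by omega)
          have hpodd : Odd (ringChar F ^ e) := hpo.pow
          obtain ⟨W, hW, htW, hnW⟩ := exu_even hF c₁ (-ε₂) hε' (ringChar F ^ e) hpodd (by omega)
          have hWord := ord_of_nil_pow hnW
          have hWO : W.InOm := inOm_of_odd hF hW (by rw [hWord]; exact hpodd)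
          obtain ⟨hA, hN⟩ := aff_sum (P₂ := K₂.neg) hnW hnd
          have hlcm : 2 * Nat.lcm (ringChar F ^ (e + 1)) K₂.ord
              = ringChar F * (W.sum K₂.neg).ord := by
            rw [hN, hK2n, lcm_two_mul_of_odd hpj]
          rw [hlcm]
          refine hr_of_afR (Nat.mul_pos hp.pos (ord_pos _))
            ⟨W.sum K₂.neg, sum_nd hW h₂', ?_, sum_inOm hWO hK2nO, hA, rfl⟩
          have := sum_typ hW h₂' htW ht₂'
          rwa [hεε, hc12] at this
      · -- `-1 ∉ Ω(K₁)`: then `-1 ∉ Ω(K₂)` and `-1 ∈ Ω(W)` for `W` of the other type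
        have hsumNeg : (K₁.sum K₂).NegOm :=
          negOm_plus8 hF (sum_nd h₁ h₂) (sim_typ hsim hKt)
        have hneg2 : ¬ K₂.NegOm := fun h2 =>
          hneg (((negOm_sum_iff hF h₁ h₂ ⟨c₁, hc₁⟩ ⟨c₂, hc₂⟩).mp hsumNeg).mpr h2)
        obtain ⟨W, hW, htW, hWord⟩ : ∃ W : OPair F, W.ND ∧ W.Typ c₁ (-ε₂) ∧
            W.ord = ringChar F ^ j := by
          rcases Nat.eq_zero_or_pos j with rfl | hjpos
          · obtain ⟨W, hW, htW, hnW⟩ := exu_even hF c₁ (-ε₂) hε' 1 odd_one (by omega)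
            exact ⟨W, hW, htW, by rw [ord_of_nil_one hnW, pow_zero]⟩
          · obtain ⟨e, rfl⟩ : ∃ e, j = e + 1 := ⟨j - 1, by omega⟩
            have hpe : ringChar F ^ e + 1 < K₁.dim := by simpa using hjd (by omega)
            have hpodd : Odd (ringChar F ^ e) := hpo.pow
            have hle : ringChar F ^ e + 2 + 1 ≤ 2 * c₁ := by
              obtain ⟨r, hr⟩ := hpodd
              omega
            obtain ⟨W, hW, htW, hnW⟩ := exu_even hF c₁ (-ε₂) hε' (ringChar F ^ e + 2)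
              (by obtain ⟨r, hr⟩ := hpodd; exact ⟨r + 1, by omega⟩) hle
            exact ⟨W, hW, htW, ord_of_nil_pow_add_two hF hnW⟩
        have hWO : W.InOm := inOm_of_odd hF hW (by rw [hWord]; exact hpj)
        have hWt8 : (W.sum K₂).Typ 4 (-1) := by
          have := sum_typ hW h₂ htW ht₂
          rwa [hεε, hc12] at this
        have hWneg : W.NegOm := by
          by_contra hWn
          apply not_negOm_minus8 hF (sum_nd hW h₂) hWt8
          rw [negOm_sum_iff hF hW h₂ ⟨c₁, by rw [htW.1]; ring⟩ ⟨c₂, hc₂⟩]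
          exact ⟨fun h => absurd h hWn, fun h => absurd h hneg2⟩
        have hWnO : W.neg.InOm := neg_inOm hWneg hWO
        have hWn' : W.neg.ND := hW
        have htW' : W.neg.Typ c₁ (-ε₂) := htW
        have hWdim : 1 ≤ W.dim := by rw [htW.1]; omega
        have hWno : W.neg.ord = 2 * ringChar F ^ j := by
          rw [neg_ord_of_odd hF (by rw [hWord]; exact hpj) hWdim, hWord]
        have hlcm : 2 * Nat.lcm (ringChar F ^ j) K₂.ord = (W.neg.sum K₂).ord := by
          rw [sum_ord, hWno, Nat.lcm_comm (2 * ringChar F ^ j), lcm_two_mul_of_odd hodd,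
            Nat.lcm_comm]
        rw [hlcm]
        refine hr_of_evR (ord_pos _) ⟨W.neg.sum K₂, sum_nd hWn' h₂, ?_, sum_inOm hWnO h2O, rfl⟩
        have := sum_typ hWn' h₂ htW' ht₂
        rwa [hεε, hc12] at this

/-- (CPLUS) -/
theorem cplus (hF : Odd (Fintype.card F)) {P : OPair F} (hP : P.ND) (ht : P.Typ 4 1) (hO : P.InOm)
    (hf : P.Fpf) : HR F P.ord := by
  by_cases hf' : P.Fpf'
  · exact c7 hF hP ht hO hf hf'
  · exact cneg hF hP ht hO hf hf'

/-- (SUB) -/
theorem sub (hF : Odd (Fintype.card F)) {N : ℕ} (h : OmR F 9 N) : HR F N := by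
  have hp : (ringChar F).Prime := ringChar_prime'
  have hpo : Odd (ringChar F) := ringChar_odd' hF
  obtain ⟨P, hd, hP, hO, rfl⟩ := h
  obtain ⟨P₁, P₂, h₁, h₂, hu, hf, hsim, -⟩ := fit hF P hP
  have hsO : (P₁.sum P₂).InOm := sim_inOm hsim hO
  have he2 : Even P₂.dim := even_dim_of_fpf hF h₁ h₂ hu hf hsO
  have hdim : P₁.dim + P₂.dim = 9 := by
    rw [← sum_dim, ← sim_dim hsim, hd]
  have ho1 : Odd P₁.dim := by
    obtain ⟨r, hr⟩ := he2
    exact ⟨4 - r, by omega⟩
  obtain ⟨k, hk, hkd⟩ := unip_ord hu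
  have h1O : P₁.InOm := inOm_of_odd hF h₁ (by rw [hk]; exact hpo.pow)
  have h2O : P₂.InOm := sum_inOm_right hF h₁ h₂ hsO h1O
  have hord : P.ord = Nat.lcm P₁.ord P₂.ord := by rw [sim_ord hsim, sum_ord]
  rw [hord]
  by_cases ha3 : 3 ≤ P₁.dim
  · exact a3 hF h₁ h₂ hu ho1 ha3 hdim h2O
  · have ha1 : P₁.dim = 1 := by
      obtain ⟨r, hr⟩ := ho1
      omega
    have hk0 : k = 0 := by
      by_contra hk0
      have := hkd hk0
      rw [ha1] at this
      have := Nat.one_le_pow (k - 1) _ hp.pos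
      omega
    have h1ord : P₁.ord = 1 := by rw [hk, hk0, pow_zero]
    rw [h1ord, Nat.lcm_one_left]
    have hd8 : P₂.dim = 2 * 4 := by omega
    obtain ⟨ε₂, hε₂, ht₂⟩ := exists_typ h₂ hd8
    rcases hε₂ with rfl | rfl
    · exact cplus hF h₂ ht₂ h2O hf
    · exact hr_of_evR (ord_pos P₂) ⟨P₂, h₂, ht₂, h2O, rfl⟩

/-- **S2517** in terms of the skeleton -/
theorem main (hF : Odd (Fintype.card F)) (a b : F)
    (hab : ∀ z₁ z₂ : F, z₁ ^ 2 + a * z₁ * z₂ + b * z₂ ^ 2 = 0 → z₁ = 0 ∧ z₂ = 0) :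
    Set.range (orderOf : Cfsg.POmega F (Cfsg.quadFormOdd 4 F) → ℕ) =
      Set.range (orderOf :
        (Multiplicative (((Fin 3 ⊕ Fin 3) ⊕ Fin 2) → F)) ⋊[
          (MulAutMultiplicative (((Fin 3 ⊕ Fin 3) ⊕ Fin 2) → F)).symm.toMonoidHom.comp
           ((DistribMulAction.toAddAut (LinearMap.GeneralLinearGroup F (((Fin 3 ⊕ Fin 3) ⊕ Fin 2) → F))
              (((Fin 3 ⊕ Fin 3) ⊕ Fin 2) → F)).comp
            (Matrix.GeneralLinearGroup.toLin.toMonoidHom.comp
              ((Cfsg.isometryGroup F (Cfsg.quadFormMinus 3 F a b)).subtype.comp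
                (Cfsg.Omega F (Cfsg.quadFormMinus 3 F a b)).subtype)))]
          ↥(Cfsg.Omega F (Cfsg.quadFormMinus 3 F a b)) → ℕ) := by
  ext N
  constructor
  · intro h
    obtain ⟨N', hd, hN', h'⟩ := sub hF ((spec_lhs hF N).1 h)
    exact exists_orderOf_of_dvd hN' ((spec_rhs hF a b hab N').2 ⟨hN', h'⟩) hd
  · intro h
    obtain ⟨-, h' | h'⟩ := (spec_rhs hF a b hab N).1 h
    · exact (spec_lhs hF N).2 (sup hF h')
    · exact (spec_lhs hF N).2 (sup_aff hF h')

end Cfsg.Agent.Helper99.O9
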